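import Mathlib
import Groth.Prelude.Def_P1
import Groth.Prelude.Def_Cyc
import Groth.Agent.AmpleThLib.CoordApp
import Groth.Agent.AmpleLib.HProjBasic
import Groth.Agent.FComplLib.Modules
import Groth.Agent.CycGysLib.ZeroScheme
import Groth.Agent.CycPushLib.Closed
import Groth.Agent.CycBivLib.Setup

/-!
# The two charts and the two sections of the projective line over a scheme
-/

set_option autoImplicit false
set_option linter.style.haveILetI false

universe u

open AlgebraicGeometry CategoryTheory CategoryTheory.Limits IsLocalRing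
open ChowLib HomogeneousLocalization

noncomputable section

namespace CycP1Lib

/-! ### over `ℤ` -/

theorem eq_or_rev (a i : Fin (1 + 1)) : a = i ∨ a = i.rev := by revert a i; decide

theorem rev_ne (i : Fin (1 + 1)) : i.rev ≠ i := by revert i; decide

theorem evalAway_coordRing (i j : Fin (1 + 1)) :
    P1.evalAway.{u} i (coordRing i j) = if j = i then 1 else 0 := by
  have h : (coordRing.{u} i j).val * algebraMap _ (Localization.Away (P1.T.{u} i)) (P1.T.{u} i ^ 1) =
      algebraMap _ (Localization.Away (P1.T.{u} i)) (P1.T.{u} j) := by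
    rw [coordRing, Away.val_mk, Localization.mk_eq_mk']
    exact IsLocalization.mk'_spec _ _ _
  simp only [P1.evalAway, RingHom.comp_apply, HomogeneousLocalization.algebraMap_apply]
  have hu : IsUnit ((MvPolynomial.aeval (Pi.single i (1 : P1.R0.{u}) : Fin (1 + 1) → P1.R0.{u})).toRingHom
      (P1.T.{u} i)) := by simp
  show IsLocalization.Away.lift (S := Localization.Away (P1.T.{u} i)) (P1.T.{u} i) hu _ = _
  have h2 := congrArg (IsLocalization.Away.lift (S := Localization.Away (P1.T.{u} i)) (P1.T.{u} i) hu) h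
  rw [map_mul, IsLocalization.Away.lift_eq, IsLocalization.Away.lift_eq] at h2
  simpa [Pi.single_apply] using h2

theorem ker_evalAway (i : Fin (1 + 1)) :
    RingHom.ker (P1.evalAway.{u} i) = Ideal.span {coordRing.{u} i i.rev} := by
  refine le_antisymm (fun a ha => ?_) ?_
  · let π := Ideal.Quotient.mk (Ideal.span {coordRing.{u} i i.rev})
    have h1 : ∀ j, j = i → coordRing.{u} i j = 1 := by
      rintro j rfl
      exact HomogeneousLocalization.val_injective _ (by simp [coordRing, Localization.mk_eq_mk'])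
    have h : π = (π.comp (intMap _)).comp (P1.evalAway.{u} i) := by
      refine away_hom_ext fun j => ?_
      rw [RingHom.comp_apply, evalAway_coordRing]
      rcases eq_or_rev j i with rfl | rfl
      · rw [if_pos rfl, map_one, h1 j rfl, map_one]
      · rw [if_neg (rev_ne i), map_zero]
        exact Ideal.Quotient.eq_zero_iff_mem.2 (Ideal.mem_span_singleton_self _)
    refine Ideal.Quotient.eq_zero_iff_mem.1 ?_
    show π a = 0
    rw [h, RingHom.comp_apply, RingHom.mem_ker.1 ha, map_zero]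
  · rw [Ideal.span_le, Set.singleton_subset_iff, SetLike.mem_coe, RingHom.mem_ker, evalAway_coordRing,
      if_neg (rev_ne i)]

theorem evalAway_surjective (i : Fin (1 + 1)) : Function.Surjective (P1.evalAway.{u} i) := fun r =>
  ⟨intMap _ r, RingHom.congr_fun (intMap_unique ((P1.evalAway.{u} i).comp (intMap _)) (RingHom.id _)) r⟩

theorem point_toSpec (i : Fin (1 + 1)) : P1.point.{u} i ≫ CohB1.ProjSpace.toSpec 1 Z.{u} = 𝟙 _ :=
  specULiftZIsTerminal.hom_ext _ _

instance (i : Fin (1 + 1)) : IsClosedImmersion (P1.point.{u} i) := by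
  haveI : IsClosedImmersion (P1.point.{u} i ≫ CohB1.ProjSpace.toSpec 1 Z.{u}) := by
    rw [point_toSpec]; infer_instance
  exact IsClosedImmersion.of_comp _ (CohB1.ProjSpace.toSpec 1 Z.{u})

theorem point_mem (i : Fin (1 + 1)) (z : Spec (CommRingCat.of P1.R0.{u})) :
    P1.point.{u} i z ∈ Dplus.{u} i := by
  rw [← opensRange_chart]
  exact ⟨_, rfl⟩

theorem range_point (i : Fin (1 + 1)) :
    Set.range (P1.point.{u} i) = ((Dplus.{u} (n := 1) i.rev : Set (PZ.{u} 1)))ᶜ := by
  have hpre : chart.{u} i ⁻¹ᵁ Dplus i.rev = PrimeSpectrum.basicOpen (coordRing.{u} i i.rev) := by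
    refine (Proj.awayι_preimage_basicOpen (gr.{u} 1) (X_mem i) one_pos (X_mem i.rev) one_pos).trans
      (congrArg PrimeSpectrum.basicOpen ?_)
    exact HomogeneousLocalization.val_injective _ (by simp [Away.isLocalizationElem, coordRing])
  have hspec := range_comap_of_surjective _ (P1.evalAway.{u} i) (evalAway_surjective i)
  rw [ker_evalAway, PrimeSpectrum.zeroLocus_span] at hspec
  ext x
  constructor
  · rintro ⟨z, rfl⟩ hz
    change Spec.map (CommRingCat.ofHom (P1.evalAway.{u} i)) z ∈ chart.{u} i ⁻¹ᵁ Dplus i.rev at hz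
    rw [hpre] at hz
    exact hz ((hspec.le ⟨z, rfl⟩) rfl)
  · intro hx
    have h : x ∈ ⨆ a, Dplus.{u} (n := 1) a := by rw [iSup_Dplus]; trivial
    obtain ⟨a, ha⟩ := TopologicalSpace.Opens.mem_iSup.1 h
    rcases eq_or_rev a i with rfl | rfl
    · rw [← opensRange_chart] at ha
      obtain ⟨q, rfl⟩ := ha
      have hq : q ∉ chart.{u} a ⁻¹ᵁ Dplus a.rev := hx
      rw [hpre] at hq
      obtain ⟨z, rfl⟩ := hspec.ge (show q ∈ PrimeSpectrum.zeroLocus {coordRing.{u} a a.rev} from
        fun y hy => hy ▸ not_not.1 hq)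
      exact ⟨z, rfl⟩
    · exact absurd ha hx

theorem point_eq (i : Fin (1 + 1)) :
    P1.point.{u} i = toSpecOf ((Scheme.ΓSpecIso (CommRingCat.of P1.R0.{u})).inv.hom.comp (P1.evalAway i)) ≫
      chart i := by
  rw [toSpecOf, CommRingCat.ofHom_comp, CommRingCat.ofHom_hom, Spec.map_comp, ← Category.assoc]
  rw [P1.point]
  congr 1
  rw [toSpecΓ_SpecMap_ΓSpecIso_inv, Category.id_comp]

theorem ker_point_app (i : Fin (1 + 1)) :
    (P1.point.{u} i).ker.ideal ⟨Dplus i, isAffineOpen_Dplus i⟩ = Ideal.span {AmpleThLib.cj i i.rev} := by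
  rw [Scheme.Hom.ker_apply]
  have hle : ⊤ ≤ P1.point.{u} i ⁻¹ᵁ Dplus i := fun z _ => point_mem i z
  have key0 : ∀ (g : Spec (CommRingCat.of P1.R0.{u}) ⟶ PZ.{u} 1)
      (_ : g = toSpecOf ((Scheme.ΓSpecIso (CommRingCat.of P1.R0.{u})).inv.hom.comp (P1.evalAway i)) ≫ chart i)
      (h : ⊤ ≤ g ⁻¹ᵁ Dplus i) (a : Away (gr.{u} 1) (MvPolynomial.X i)),
      g.appLE (Dplus i) ⊤ h (Proj.awayToSection (gr.{u} 1) (MvPolynomial.X i) a) =
        (Scheme.ΓSpecIso (CommRingCat.of P1.R0.{u})).inv.hom (P1.evalAway i a) := by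
    rintro g rfl h a
    exact AmpleThLib.toSpecOf_awayι_appLE (gr.{u} 1) (X_mem i) one_pos _ h a
  have key := key0 _ (point_eq i) hle
  have he : (P1.point.{u} i) ⁻¹ᵁ Dplus i = ⊤ := top_le_iff.1 hle
  haveI : IsIso ((Spec (CommRingCat.of P1.R0.{u})).presheaf.map (homOfLE hle).op) := by
    rw [show (homOfLE hle) = eqToHom he.symm from Subsingleton.elim _ _, eqToHom_op]
    infer_instance
  have hiff : ∀ a, Proj.awayToSection (gr.{u} 1) (MvPolynomial.X i) a ∈
      RingHom.ker ((P1.point.{u} i).app (Dplus i)).hom ↔ a ∈ RingHom.ker (P1.evalAway.{u} i) := by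
    intro a
    have hinj := (ConcreteCategory.bijective_of_isIso
      ((Spec (CommRingCat.of P1.R0.{u})).presheaf.map (homOfLE hle).op)).1
    have hinj' := (ConcreteCategory.bijective_of_isIso (Scheme.ΓSpecIso (CommRingCat.of P1.R0.{u})).inv).1
    have h := key a
    show (P1.point.{u} i).app (Dplus i) _ = 0 ↔ P1.evalAway.{u} i a = 0
    constructor
    · intro h0
      refine hinj' (Eq.trans (h.symm.trans ?_) (map_zero _).symm)
      exact (congrArg ((Spec (CommRingCat.of P1.R0.{u})).presheaf.map (homOfLE hle).op) h0).trans (map_zero _)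
    · intro h0
      refine hinj (Eq.trans (h.trans ?_) (map_zero _).symm)
      rw [h0, map_zero]
  have hbij : Function.Bijective (Proj.awayToSection (gr.{u} 1) (MvPolynomial.X i)).hom :=
    ConcreteCategory.bijective_of_isIso (Proj.basicOpenIsoAway (gr.{u} 1) _ (X_mem i) one_pos).hom
  refine le_antisymm (fun s hs => ?_) ?_
  · obtain ⟨a, rfl⟩ := hbij.2 s
    have ha := (hiff a).1 hs
    rw [ker_evalAway] at ha
    obtain ⟨b, rfl⟩ := Ideal.mem_span_singleton'.1 ha
    erw [map_mul]
    exact Ideal.mul_mem_left _ _ (Ideal.mem_span_singleton_self _)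
  · rw [Ideal.span_le, Set.singleton_subset_iff]
    exact (hiff _).2 (by rw [ker_evalAway]; exact Ideal.mem_span_singleton_self _)

theorem ker_stalkMap_point (i : Fin (1 + 1)) (z : Spec (CommRingCat.of P1.R0.{u})) :
    RingHom.ker ((P1.point.{u} i).stalkMap z).hom =
      Ideal.span {(PZ.{u} 1).presheaf.germ (Dplus i) _ (point_mem i z) (AmpleThLib.cj i i.rev)} := by
  rw [FComplLib.ker_stalkMap (P1.point.{u} i) z ⟨Dplus i, isAffineOpen_Dplus i⟩ (point_mem i z), ker_point_app,
    Ideal.map_span, Set.image_singleton]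

/-! ### over a scheme -/

variable (X : Scheme.{u})

/-- the chart where the `i`-th coordinate is invertible -/
abbrev chartOpen (i : Fin (1 + 1)) : (CohB1.ProjSpaceOver 1 X).Opens := toPZ 1 X ⁻¹ᵁ Dplus i

/-- the affine coordinate of the `i`-th chart -/
def t (i : Fin (1 + 1)) : Γ(CohB1.ProjSpaceOver 1 X, chartOpen X i) :=
  RelProjLib.coord (toPZ 1 X) i i.rev (le_refl (chartOpen X i))

theorem t_eq (i : Fin (1 + 1)) :
    t X i = (toPZ 1 X).app (Dplus i) (AmpleThLib.cj i i.rev) := by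
  rw [t, AmpleThLib.coord_eq]
  simp [Scheme.Hom.app_eq_appLE]

theorem mem_or (p : ↥(CohB1.ProjSpaceOver 1 X)) (i : Fin (1 + 1)) : p ∈ chartOpen X i ∨ p ∈ chartOpen X i.rev := by
  have h : toPZ 1 X p ∈ ⨆ a, Dplus.{u} (n := 1) a := by rw [iSup_Dplus]; trivial
  obtain ⟨a, ha⟩ := TopologicalSpace.Opens.mem_iSup.1 h
  rcases eq_or_rev a i with rfl | rfl
  · exact Or.inl ha
  · exact Or.inr ha

variable {X}

/-- the two coordinates are inverse to each other -/
theorem germ_t_mul {p : ↥(CohB1.ProjSpaceOver 1 X)} {i : Fin (1 + 1)} (hi : p ∈ chartOpen X i)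
    (hr : p ∈ chartOpen X i.rev) :
    (CohB1.ProjSpaceOver 1 X).presheaf.germ _ p hi (t X i) *
      (CohB1.ProjSpaceOver 1 X).presheaf.germ _ p hr (t X i.rev) = 1 := by
  have h := RelProjLib.coord_change (toPZ 1 X) i i.rev i (W := chartOpen X i ⊓ chartOpen X i.rev) inf_le_left inf_le_right
  rw [RelProjLib.coord_self] at h
  have h2 := congrArg ((CohB1.ProjSpaceOver 1 X).presheaf.germ (chartOpen X i ⊓ chartOpen X i.rev) p ⟨hi, hr⟩) h
  rw [map_one, map_mul] at h2
  have e : ∀ (a j : Fin (1 + 1)) (W : (CohB1.ProjSpaceOver 1 X).Opens) (hW : W ≤ chartOpen X a) (hp : p ∈ W),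
      (CohB1.ProjSpaceOver 1 X).presheaf.germ W p hp (RelProjLib.coord (toPZ 1 X) a j hW) =
        (CohB1.ProjSpaceOver 1 X).presheaf.germ (chartOpen X a) p (hW hp)
          (RelProjLib.coord (toPZ 1 X) a j (le_refl (chartOpen X a))) := fun a j W hW hp => by
    rw [← RelProjLib.coord_res (toPZ 1 X) a j (le_refl (chartOpen X a)) hW]
    exact TopCat.Presheaf.germ_res_apply _ _ _ _ _
  rw [e i.rev i, e i i.rev] at h2
  have ht : t X i.rev = RelProjLib.coord (toPZ 1 X) i.rev i (le_refl (chartOpen X i.rev)) := by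
    simp only [t, Fin.rev_rev]
  rw [ht, mul_comm]
  exact h2.symm

theorem basicOpen_t (i : Fin (1 + 1)) :
    (CohB1.ProjSpaceOver 1 X).basicOpen (t X i) = chartOpen X i ⊓ chartOpen X i.rev :=
  RelProjLib.basicOpen_coord _ _ _ _

@[simp] theorem sect_toPZ (i : Fin (1 + 1)) :
    P1.sect X i ≫ toPZ 1 X = specULiftZIsTerminal.from X ≫ P1.point i := pullback.lift_fst _ _ _

@[simp] theorem sect_toBase (i : Fin (1 + 1)) : P1.sect X i ≫ CohB1.ProjSpaceOver.toBase 1 X = 𝟙 X :=
  pullback.lift_snd _ _ _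

theorem toBase_sect (i : Fin (1 + 1)) (x : X) : CohB1.ProjSpaceOver.toBase 1 X (P1.sect X i x) = x := by
  rw [← Scheme.Hom.comp_apply, sect_toBase]
  rfl

instance isClosedImmersion_sect (i : Fin (1 + 1)) : IsClosedImmersion (P1.sect X i) := by
  haveI : IsClosedImmersion (P1.sect X i ≫ CohB1.ProjSpaceOver.toBase 1 X) := by
    rw [sect_toBase]; infer_instance
  exact IsClosedImmersion.of_comp _ (CohB1.ProjSpaceOver.toBase 1 X)

theorem sect_mem (i : Fin (1 + 1)) (x : X) : P1.sect X i x ∈ chartOpen X i := by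
  show (P1.sect X i ≫ toPZ 1 X) x ∈ Dplus i
  rw [sect_toPZ]
  exact point_mem i _

variable (X)

/-- the section as base change of the point -/
def sectIso (i : Fin (1 + 1)) : X ≅ pullback (toPZ 1 X) (P1.point.{u} i) where
  hom := pullback.lift (P1.sect X i) (specULiftZIsTerminal.from X) (sect_toPZ i)
  inv := pullback.fst _ _ ≫ CohB1.ProjSpaceOver.toBase 1 X
  hom_inv_id := by rw [pullback.lift_fst_assoc, sect_toBase]
  inv_hom_id := by
    refine pullback.hom_ext ?_ (specULiftZIsTerminal.hom_ext _ _)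
    rw [Category.assoc, pullback.lift_fst, Category.id_comp]
    apply po_ext
    · rw [Category.assoc, Category.assoc, sect_toPZ, pullback.condition, ← Category.assoc, ← Category.assoc]
      congr 1
      exact specULiftZIsTerminal.hom_ext _ _
    · simp only [Category.assoc, sect_toBase, Category.comp_id]

theorem sectIso_hom_fst (i : Fin (1 + 1)) : (sectIso X i).hom ≫ pullback.fst _ _ = P1.sect X i :=
  pullback.lift_fst _ _ _

variable {X}

theorem range_sect (i : Fin (1 + 1)) :
    Set.range (P1.sect X i) = (chartOpen X i.rev : Set ↥(CohB1.ProjSpaceOver 1 X))ᶜ := by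
  have hr : Set.range ((sectIso X i).hom ≫ pullback.fst _ _) = Set.range (pullback.fst (toPZ 1 X) (P1.point.{u} i)) := by
    ext p
    constructor
    · rintro ⟨x, rfl⟩; exact ⟨_, rfl⟩
    · rintro ⟨z, rfl⟩
      obtain ⟨x, rfl⟩ := (sectIso X i).hom.surjective z
      exact ⟨x, rfl⟩
  rw [← sectIso_hom_fst, hr]
  rw [Scheme.Pullback.range_fst, range_point]
  rfl

/-- the kernel of the local rings at a point of a section is generated by the coordinate -/
theorem ker_stalkMap_sect (i : Fin (1 + 1)) (x : X) :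
    RingHom.ker ((P1.sect X i).stalkMap x).hom =
      Ideal.span {(CohB1.ProjSpaceOver 1 X).presheaf.germ _ _ (sect_mem i x) (t X i)} := by
  have key : ∀ (h : X ⟶ CohB1.ProjSpaceOver 1 X) (e : h = (sectIso X i).hom ≫ pullback.fst _ _)
      (hh : h x ∈ chartOpen X i),
      RingHom.ker (h.stalkMap x).hom =
        Ideal.span {(CohB1.ProjSpaceOver 1 X).presheaf.germ _ _ hh (t X i)} := by
    rintro h rfl hh
    have h1 := CycGysLib.ker_stalkMap_fst (toPZ 1 X) (P1.point.{u} i) ((sectIso X i).hom x) hh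
      (point_mem i _) (AmpleThLib.cj i i.rev) (ker_stalkMap_point i _)
    rw [Scheme.Hom.stalkMap_comp]
    erw [CommRingCat.hom_comp, RingHom.ker_comp_of_injective]
    · rw [t_eq]
      erw [h1, Scheme.Hom.germ_stalkMap_apply]
      rfl
    · exact (ConcreteCategory.bijective_of_isIso ((sectIso X i).hom.stalkMap x)).1
  exact key _ (sectIso_hom_fst X i).symm _

theorem germ_t_mem_iff {p : ↥(CohB1.ProjSpaceOver 1 X)} {i : Fin (1 + 1)} (hi : p ∈ chartOpen X i) :
    (CohB1.ProjSpaceOver 1 X).presheaf.germ _ p hi (t X i) ∈ maximalIdeal _ ↔ p ∈ Set.range (P1.sect X i) := by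
  rw [range_sect, IsLocalRing.mem_maximalIdeal, mem_nonunits_iff, ← Scheme.mem_basicOpen, basicOpen_t]
  exact ⟨fun h h' => h ⟨hi, h'⟩, fun h h' => h h'.2⟩

/-- the dimension function along a section -/
theorem delta_sect {δ : X → ℤ} {δP : ↥(CohB1.ProjSpaceOver 1 X) → ℤ}
    (hP : Cyc.DeltaCompat (CohB1.ProjSpaceOver.toBase 1 X) δP δ) (i : Fin (1 + 1)) (x : X) :
    δP (P1.sect X i x) = δ x := by
  obtain ⟨n, hn, hn'⟩ := hP (P1.sect X i x)
  have h1 := AlgSpLib.resTrdeg_comp (P1.sect X i) (CohB1.ProjSpaceOver.toBase 1 X) x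
  rw [sect_toBase, CycPushLib.trdeg_preimmersion_left (P1.sect X i), CycPushLib.trdeg_preimmersion_left (𝟙 X),
    add_zero] at h1
  have hn0 : n = 0 := Nat.cast_eq_zero.1 (hn.symm.trans (show _ = (0 : Cardinal) from h1.symm))
  rw [hn', hn0, toBase_sect]
  simp

theorem deltaCompat_sect {δ : X → ℤ} {δP : ↥(CohB1.ProjSpaceOver 1 X) → ℤ}
    (hP : Cyc.DeltaCompat (CohB1.ProjSpaceOver.toBase 1 X) δP δ) (i : Fin (1 + 1)) :
    Cyc.DeltaCompat (P1.sect X i) δ δP := fun x =>
  ⟨0, (CycPushLib.trdeg_preimmersion_left (P1.sect X i) x).trans Nat.cast_zero.symm, by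
    simp [delta_sect hP]⟩

instance : IsProper (CohB1.ProjSpaceOver.toBase 1 X) := ChowLib.isProper_toBase 1 X

theorem isSetup_proj {δ : X → ℤ} (hX : Cyc.IsSetup X δ) {δP : ↥(CohB1.ProjSpaceOver 1 X) → ℤ}
    (hP : Cyc.DeltaCompat (CohB1.ProjSpaceOver.toBase 1 X) δP δ) : Cyc.IsSetup _ δP :=
  CycBivLib.isSetup_of_lft _ hX hP

end CycP1Lib

end
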