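import Mathlib
import Groth.Agent.CycGysLib.SheafGysin
import Groth.Agent.AssPointLib.Basic

/-!
# Lengths of the quotient by a regular element as sums of orders
-/

set_option autoImplicit false
set_option linter.style.haveILetI false
set_option linter.unusedSectionVars false

universe u

open AlgebraicGeometry CategoryTheory IsLocalRing Opposite
open scoped Pointwise

noncomputable section

namespace CycP1Lib

variable {X : Scheme.{u}} {δ : X → ℤ}

/-- An associated prime of a stalk is an associated point. -/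
theorem assoc_stalkPt [IsLocallyNoetherian X] {F : X.Modules} [Coh.IsQCoh F] (hF : CohB1.IsFT F) (x : X)
    (P : PrimeSpectrum (X.presheaf.stalk x))
    (hP : P.asIdeal ∈ associatedPrimes (X.presheaf.stalk x) (F.presheaf.stalk x)) :
    IsAssociatedPrime (maximalIdeal (X.presheaf.stalk (EquidimLib.stalkPt x P)))
      (F.presheaf.stalk (EquidimLib.stalkPt x P)) := by
  obtain ⟨_, ⟨V, hV, rfl⟩, hxV, -⟩ :=
    X.isBasis_affineOpens.exists_subset_of_mem_open (Set.mem_univ x) isOpen_univ
  letI : Algebra Γ(X, V) (X.presheaf.stalk x) := (X.presheaf.germ V x hxV).hom.toAlgebra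
  haveI : IsLocalization.AtPrime (X.presheaf.stalk x) (hV.primeIdealOf ⟨x, hxV⟩).asIdeal :=
    hV.isLocalization_stalk ⟨x, hxV⟩
  letI := Module.compHom (F.presheaf.stalk x) (X.presheaf.germ V x hxV).hom
  haveI : IsScalarTower Γ(X, V) (X.presheaf.stalk x) (F.presheaf.stalk x) :=
    IsScalarTower.of_algebraMap_smul fun _ _ => rfl
  haveI := FlatLib.isLocalizedModule_germLin F hV hxV
  haveI := QCohLib.finite_of_isFT hF hV
  haveI : IsNoetherianRing Γ(X, V) := IsLocallyNoetherian.component_noetherian ⟨V, hV⟩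
  have h := Module.associatedPrimes.preimage_comap_associatedPrimes_eq_associatedPrimes_of_isLocalizedModule
    (hV.primeIdealOf ⟨x, hxV⟩).asIdeal.primeCompl (R' := X.presheaf.stalk x) (FlatLib.germLin F hxV)
  have hq : P.asIdeal.comap (algebraMap Γ(X, V) (X.presheaf.stalk x)) ∈ associatedPrimes Γ(X, V) Γ(F, V) :=
    h.ge hP
  have hzV : EquidimLib.stalkPt x P ∈ V := (EquidimLib.stalkPt_specializes x P).mem_open V.isOpen hxV
  have hpt : hV.fromSpec (PrimeSpectrum.comap (algebraMap Γ(X, V) (X.presheaf.stalk x)) P) =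
      EquidimLib.stalkPt x P := congrArg (fun φ => φ.base P) (hV.fromSpecStalk_eq_fromSpecStalk hxV)
  have hprime : (hV.primeIdealOf ⟨_, hzV⟩).asIdeal = P.asIdeal.comap (algebraMap Γ(X, V) (X.presheaf.stalk x)) :=
    congrArg PrimeSpectrum.asIdeal (hV.fromSpec.isOpenEmbedding.injective
      ((hV.fromSpec_primeIdealOf ⟨_, hzV⟩).trans hpt.symm))
  obtain ⟨m, hm⟩ := AssPointLib.minimal_of_isAssociatedPrime hq
  exact (AssPointLib.assPoint_iff_weak F _).2 ((AssPointLib.weak_iff hV hzV).2 ⟨m, hprime ▸ hm⟩)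

/-- The length of the quotient of a stalk by a regular element is the sum of the orders at the point. -/
theorem length_quot_eq_finsum_divFun (hX : Cyc.IsSetup X δ) {k : ℤ} {F : X.Modules} (hF : Coh.IsCoh F)
    (hdim : ∀ x : X, Nontrivial (F.presheaf.stalk x) → δ x ≤ k + 1) {x : X} (hdk : δ x = k)
    (φ : X.presheaf.stalk x) (hinj : Function.Injective (fun m : F.presheaf.stalk x => φ • m))
    (g : ∀ ξ, X.residueField ξ)
    (hg : ∀ (ξ : X) (h : ξ ⤳ x), Nontrivial (F.presheaf.stalk ξ) → δ ξ = k + 1 →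
      g ξ = Cyc.specMap x ξ h φ ∧ g ξ ≠ 0) :
    ∑ᶠ ξ, Cyc.sheafFun δ (k + 1) F ξ * Cyc.divFun δ ξ (g ξ) x =
      ((Module.length (X.presheaf.stalk x)
        (F.presheaf.stalk x ⧸ φ • (⊤ : Submodule (X.presheaf.stalk x) (F.presheaf.stalk x)))).toNat : ℤ) := by
  classical
  haveI := hX.1
  haveI := hF.1
  let R : Type u := X.presheaf.stalk x
  let M : Type u := F.presheaf.stalk x
  haveI : Module.Finite R M := DepthLib.finite_stalk F hF.2 x
  -- points of the support
  let pt : PrimeSpectrum R → X := EquidimLib.stalkPt x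
  have hpt : ∀ P, pt P ⤳ x := EquidimLib.stalkPt_specializes x
  have hmax : ∀ P : PrimeSpectrum R, pt P = x ↔ P.asIdeal = maximalIdeal R := fun P => by
    constructor
    · intro h
      exact congrArg PrimeSpectrum.asIdeal
        (EquidimLib.stalkPt_injective x (h.trans Scheme.fromSpecStalk_closedPoint.symm) : P = closedPoint R)
    · intro h
      rw [show P = closedPoint R from PrimeSpectrum.ext h]
      exact Scheme.fromSpecStalk_closedPoint
  have hprime : ∀ P : PrimeSpectrum R, CycDivLib.primeOf (hpt P) = P := fun P =>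
    EquidimLib.stalkPt_injective x (CycDivLib.stalkPt_primeOf (hpt P))
  have hsupp : ∀ P : PrimeSpectrum R, P ∈ Module.support R M ↔ Nontrivial (F.presheaf.stalk (pt P)) := fun P =>
    (DvrLenLib.mem_support_stalk_iff F hF.2 x P).trans not_subsingleton_iff_nontrivial
  have htop : ∀ P ∈ Module.support R M, P.asIdeal ≠ maximalIdeal R → δ (pt P) = k + 1 := fun P hP hm => by
    have h1 := (hX.2.2 _ _ (hpt P) fun h => hm ((hmax P).1 h)).1
    have h2 := hdim _ ((hsupp P).1 hP)
    omega
  have hmin : ∀ P Q : PrimeSpectrum R, Q ∈ Module.support R M → P.asIdeal ≠ maximalIdeal R → P ∈ Module.support R M →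
      Q.asIdeal ≤ P.asIdeal → Q = P := by
    intro P Q hQ hP hPs hle
    by_contra hQP
    have hQm : Q.asIdeal ≠ maximalIdeal R := fun h => hP (le_antisymm (le_maximalIdeal P.2.ne_top) (h ▸ hle))
    have h1 := (hX.2.2 _ _ (((PrimeSpectrum.le_iff_specializes Q P).1 hle).map (X.fromSpecStalk x).continuous)
      (fun h => hQP ((X.fromSpecStalk x).isEmbedding.injective h))).1
    change δ (pt P) < δ (pt Q) at h1
    rw [htop Q hQ hQm, htop P hPs hP] at h1
    exact lt_irrefl _ h1
  have hφP : ∀ P ∈ Module.support R M, P.asIdeal ≠ maximalIdeal R → φ ∉ P.asIdeal := by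
    intro P hP hm hmem
    obtain ⟨he, hne⟩ := hg _ (hpt P) ((hsupp P).1 hP) (htop P hP hm)
    refine hne (he.trans ((CycDivLib.specMap_eq_zero_iff (hpt P) φ).2 ?_))
    rw [hprime]
    exact hmem
  have hdim1 : Module.supportDim R M ≤ 1 := by
    rw [Module.supportDim, Order.krullDim_le_one_iff]
    rintro ⟨P, hP⟩
    by_cases hPm : P.asIdeal = maximalIdeal R
    · refine Or.inr ?_
      rintro ⟨Q, hQ⟩ hle
      change Q.asIdeal ≤ P.asIdeal
      rw [hPm]
      exact le_maximalIdeal Q.2.ne_top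
    · refine Or.inl ?_
      rintro ⟨Q, hQ⟩ hle
      exact le_of_eq (Subtype.ext (hmin P Q hQ hPm hP hle).symm)
  have h1833 := Groth.Agent.S1833.result R M φ hdim1 (by
      rw [Module.supportDim, Order.krullDim_nonpos_iff_forall_isMax]
      rintro ⟨P, hP⟩ ⟨Q, hQ⟩ hle
      have hmem : ∀ P : PrimeSpectrum R, P ∈ Module.support R (M ⧸ φ • (⊤ : Submodule R M)) →
          P ∈ Module.support R M ∧ φ ∈ P.asIdeal := by
        intro P hP
        refine ⟨Module.support_subset_of_surjective _ (Submodule.mkQ_surjective _) hP, ?_⟩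
        rw [Module.support_eq_zeroLocus] at hP
        refine hP ?_
        rw [SetLike.mem_coe, Module.mem_annihilator]
        intro m
        obtain ⟨m, rfl⟩ := Submodule.Quotient.mk_surjective _ m
        rw [← Submodule.Quotient.mk_smul, Submodule.Quotient.mk_eq_zero]
        exact Submodule.smul_mem_pointwise_smul m φ ⊤ trivial
      have hm : ∀ P, P ∈ Module.support R (M ⧸ φ • (⊤ : Submodule R M)) → P.asIdeal = maximalIdeal R :=
        fun P hP => by_contra fun h => hφP P (hmem P hP).1 h (hmem P hP).2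
      refine le_of_eq (Subtype.ext (PrimeSpectrum.ext ?_))
      show Q.asIdeal = P.asIdeal
      rw [hm P hP, hm Q hQ])
  rw [show LinearMap.ker (LinearMap.lsmul R M φ) = ⊥ from LinearMap.ker_eq_bot.2 hinj, Module.length_bot,
    zero_add] at h1833
  have hfin : {P : PrimeSpectrum R | P ∈ Module.support R M ∧ P.asIdeal ≠ maximalIdeal R}.Finite := by
    refine ((Ideal.finite_minimalPrimes_of_isNoetherianRing R (Module.annihilator R M)).preimage
      (f := PrimeSpectrum.asIdeal) (fun a _ b _ h => PrimeSpectrum.ext h)).subset fun P hP => ?_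
    have hP' := hP.1
    rw [Module.support_eq_zeroLocus] at hP'
    refine ⟨⟨P.2, hP'⟩, fun Q hQ hle => (congrArg PrimeSpectrum.asIdeal (hmin P ⟨Q, hQ.1⟩ ?_ hP.2 hP.1 hle)).ge⟩
    rw [Module.support_eq_zeroLocus]
    exact hQ.2
  let T := hfin.toFinset
  rw [finsum_cond_eq_sum_of_cond_iff (t := T) _ (fun {P} _ => by
    rw [Set.Finite.mem_toFinset]
    rfl)] at h1833
  rw [h1833]
  have hfinlen : ∀ P ∈ T, Module.length (X.presheaf.stalk (pt P)) (F.presheaf.stalk (pt P)) ≠ ⊤ := by
    intro P hP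
    obtain ⟨hPs, hPm⟩ := hfin.mem_toFinset.1 hP
    refine ((Groth.Agent.S1916.result X F hF).2 _ ((hsupp P).1 hPs) fun z hz hzξ => ?_).ne
    by_contra hne
    have h1 := (hX.2.2 z _ hzξ hne).1
    have h2 := hdim z hz
    have h3 := htop P hPs hPm
    omega
  have hord : ∀ P ∈ T, Ring.ord (R ⧸ P.asIdeal) (Ideal.Quotient.mk P.asIdeal φ) ≠ ⊤ := by
    intro P hP
    obtain ⟨hPs, hPm⟩ := hfin.mem_toFinset.1 hP
    haveI : Ring.KrullDimLE 1 (R ⧸ P.asIdeal) := Ring.krullDimLE_iff.2 (by
      have h := CycPushLib.dimBetween_le_one_of_drop hX (hpt P) (by rw [hdk, htop P hPs hPm])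
      rw [← CycDivLib.dim_quotient (hpt P), hprime] at h
      exact h)
    exact Ring.ord_ne_top (mem_nonZeroDivisors_of_ne_zero fun h => hφP P hPs hPm
      (Ideal.Quotient.eq_zero_iff_mem.1 h))
  have hlen : ∀ P : PrimeSpectrum R, Module.length (Localization.AtPrime P.asIdeal)
      (LocalizedModule P.asIdeal.primeCompl M) = Module.length (X.presheaf.stalk (pt P)) (F.presheaf.stalk (pt P)) :=
    fun P => DvrLenLib.length_localizedModule_stalk F x P rfl
  rw [finsum_eq_sum_of_support_subset _ (s := T.image pt) fun ξ hξ => ?_,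
    Finset.sum_image fun a _ b _ h => EquidimLib.stalkPt_injective x h]
  refine Eq.trans ?_ (CycDivLib.toNat_sum T _ fun P hP =>
    WithTop.mul_ne_top (hord P hP) ((hlen P).trans_ne (hfinlen P hP))).symm
  swap
  · have hne := left_ne_zero_of_mul hξ
    unfold Cyc.sheafFun at hne
    have hsp : ξ ⤳ x ∧ δ x + 1 = δ ξ := by
      by_contra h
      exact right_ne_zero_of_mul hξ (dif_neg h)
    split_ifs at hne with h'
    swap
    · exact absurd rfl hne
    rw [Finset.mem_coe, Finset.mem_image]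
    refine ⟨CycDivLib.primeOf hsp.1, hfin.mem_toFinset.2 ⟨(hsupp _).2 ?_, fun hP => ?_⟩,
      CycDivLib.stalkPt_primeOf hsp.1⟩
    · rw [show pt (CycDivLib.primeOf hsp.1) = ξ from CycDivLib.stalkPt_primeOf hsp.1]
      by_contra h0
      rw [not_nontrivial_iff_subsingleton] at h0
      rw [Module.length_eq_zero_iff.2 h0] at hne
      exact hne rfl
    · have := (hmax _).2 hP
      rw [show pt (CycDivLib.primeOf hsp.1) = ξ from CycDivLib.stalkPt_primeOf hsp.1] at this
      rw [this] at h'
      omega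
  refine Finset.sum_congr rfl fun P hP => ?_
  obtain ⟨hPs, hPm⟩ := hfin.mem_toFinset.1 hP
  have hd' := htop P hPs hPm
  rw [show Cyc.sheafFun δ (k + 1) F (pt P) = _ from if_pos hd', (hg _ (hpt P) ((hsupp P).1 hPs) hd').1,
    Cyc.divFun, dif_pos ⟨hpt P, by rw [hdk, hd']⟩]
  refine Eq.trans ?_ ((congrArg Nat.cast (ENat.toNat_mul _ _)).trans (Nat.cast_mul _ _)).symm
  rw [hlen, mul_comm]
  refine congrArg₂ (· * ·) ?_ rfl
  show Cyc.ordAt x (pt P) (hpt P) (Cyc.specMap x (pt P) (hpt P) φ) = _
  rw [CycDivLib.ordAt_specMap (hpt P) (CycPushLib.dimBetween_le_one_of_drop hX (hpt P) (by rw [hdk, hd']))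
    (fun h => hφP P hPs hPm (by
      have h' := (CycDivLib.specMap_eq_zero_iff (hpt P) φ).1 h
      rwa [hprime] at h')), hprime, CycDivLib.length_quot_quot]

end CycP1Lib

end
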