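import Mathlib
import Groth.Agent.CycP1Lib.Coords
import Groth.Agent.CycP1Lib.Length
import Groth.Agent.CycPushLib.Vanish
import Groth.Agent.CycBivLib.Birational
import Groth.Agent.CycC1Lib.Cap
import Groth.Agent.CycDegLib.Class
import Groth.Agent.S1855
import Groth.Agent.S1859

/-!
# Fibres at zero and infinity of a coherent module on the projective line
-/

set_option autoImplicit false
set_option linter.style.haveILetI false

universe u

open AlgebraicGeometry CategoryTheory IsLocalRing Opposite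
open scoped Pointwise

noncomputable section

namespace CycP1Lib

variable {X : Scheme.{u}} {δ : X → ℤ}

/-- The cycle of the top dimensional part of a coherent module. -/
def sheafCyc (hX : Cyc.IsSetup X δ) {F : X.Modules} (hF : Coh.IsCoh F) {k : ℤ}
    (hdim : ∀ x : X, Nontrivial (F.presheaf.stalk x) → δ x ≤ k) : AlgebraicCycle X ℤ where
  toFun := Cyc.sheafFun δ k F
  supportWithinDomain' := by simp
  supportLocallyFiniteWithinDomain' x _ := by
    haveI := hX.1
    haveI : Coh.IsQCoh F := hF.1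
    obtain ⟨U, hU, hxU⟩ := QCohLib.exists_affine_nhd x
    refine ⟨U, U.isOpen.mem_nhds hxU, (AssPointLib.finite_assPoints hF.2 U hU.isCompact).subset ?_⟩
    rintro ξ ⟨hξU, hne⟩
    have hne' : δ ξ = k ∧ Nontrivial (F.presheaf.stalk ξ) := by
      rw [Function.mem_support] at hne
      simp only [Cyc.sheafFun] at hne
      split_ifs at hne with h
      swap
      · exact absurd rfl hne
      refine ⟨h, not_subsingleton_iff_nontrivial.1 fun hs => hne ?_⟩
      rw [Module.length_eq_zero_iff.2 hs]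
      rfl
    refine ⟨hξU, AssPointLib.weak_of_maximal (not_subsingleton_iff_nontrivial.2 hne'.2) fun y hy hyξ => ?_⟩
    by_contra h
    have h1 := (hX.2.2 y ξ hyξ h).1
    have h2 := hdim y (not_subsingleton_iff_nontrivial.1 hy)
    omega

theorem sheafCyc_mem_Zk (hX : Cyc.IsSetup X δ) {F : X.Modules} (hF : Coh.IsCoh F) {k : ℤ}
    (hdim : ∀ x : X, Nontrivial (F.presheaf.stalk x) → δ x ≤ k) : sheafCyc hX hF hdim ∈ Cyc.Zk X δ k :=
  fun _ hx => if_neg hx

/-- An element of a stalk is regular when it avoids the associated points. -/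
theorem regular_of_assoc [IsLocallyNoetherian X] {F : X.Modules} [Coh.IsQCoh F] (hF : CohB1.IsFT F) (x : X)
    (φ : X.presheaf.stalk x)
    (h : ∀ P : PrimeSpectrum (X.presheaf.stalk x), φ ∈ P.asIdeal →
      IsAssociatedPrime (maximalIdeal (X.presheaf.stalk (EquidimLib.stalkPt x P)))
        (F.presheaf.stalk (EquidimLib.stalkPt x P)) → False) :
    Function.Injective (fun m : F.presheaf.stalk x => φ • m) := by
  intro m m' e
  by_contra hne
  have hmem : φ ∈ {r : X.presheaf.stalk x | ∃ m : F.presheaf.stalk x, m ≠ 0 ∧ r • m = 0} :=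
    ⟨m - m', sub_ne_zero.2 hne, by rw [smul_sub, sub_eq_zero]; exact e⟩
  rw [← biUnion_associatedPrimes_eq_zero_divisors] at hmem
  obtain ⟨p, hp, hφp⟩ := Set.mem_iUnion₂.1 hmem
  exact h ⟨p, (isAssociatedPrime_iff.1 hp).1⟩ hφp (assoc_stalkPt hF x _ hp)

/-- The coefficient of the fibre over a section. -/
def fibreFun (δ : X → ℤ) (k : ℤ) (F : (CohB1.ProjSpaceOver 1 X).Modules) (i : Fin (1 + 1)) : X → ℤ := fun x =>
  if δ x = k then
    ((Module.length ((CohB1.ProjSpaceOver 1 X).presheaf.stalk (P1.sect X i x))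
      (F.presheaf.stalk (P1.sect X i x) ⧸
        (CohB1.ProjSpaceOver 1 X).presheaf.germ _ _ (sect_mem i x) (t X i) •
          (⊤ : Submodule ((CohB1.ProjSpaceOver 1 X).presheaf.stalk (P1.sect X i x))
            (F.presheaf.stalk (P1.sect X i x))))).toNat : ℤ)
  else 0

open Classical in
/-- The coordinate as a rational function on the subvarieties off the two sections. -/
def coordFun (ξ : ↥(CohB1.ProjSpaceOver 1 X)) : (CohB1.ProjSpaceOver 1 X).residueField ξ :=
  if h : ξ ∈ chartOpen X 0 ∧ ξ ∈ chartOpen X (0 : Fin (1 + 1)).rev then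
    (CohB1.ProjSpaceOver 1 X).evaluation _ ξ h.1 (t X 0) else 1

theorem isUnit_germ_t {ξ : ↥(CohB1.ProjSpaceOver 1 X)} {i : Fin (1 + 1)} (h : ξ ∈ chartOpen X i)
    (h' : ξ ∈ chartOpen X i.rev) : IsUnit ((CohB1.ProjSpaceOver 1 X).presheaf.germ _ ξ h (t X i)) :=
  IsUnit.of_mul_eq_one _ (germ_t_mul h h')

theorem evaluation_t_ne_zero {ξ : ↥(CohB1.ProjSpaceOver 1 X)} {i : Fin (1 + 1)} (h : ξ ∈ chartOpen X i)
    (h' : ξ ∈ chartOpen X i.rev) : (CohB1.ProjSpaceOver 1 X).evaluation _ ξ h (t X i) ≠ 0 :=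
  ((isUnit_germ_t h h').map ((CohB1.ProjSpaceOver 1 X).residue ξ).hom).ne_zero

theorem coordFun_ne_zero (ξ : ↥(CohB1.ProjSpaceOver 1 X)) : coordFun ξ ≠ 0 := by
  unfold coordFun
  split_ifs with h
  · exact evaluation_t_ne_zero h.1 h.2
  · exact one_ne_zero

theorem mem_range_or (p : ↥(CohB1.ProjSpaceOver 1 X)) :
    p ∈ Set.range (P1.sect X 0) ∨ p ∈ Set.range (P1.sect X 1) ∨
      p ∈ chartOpen X 0 ∧ p ∈ chartOpen X 1 := by
  rw [range_sect, range_sect, show (0 : Fin (1 + 1)).rev = 1 from rfl, show (1 : Fin (1 + 1)).rev = 0 from rfl]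
  by_cases h0 : p ∈ chartOpen X 0
  · by_cases h1 : p ∈ chartOpen X 1
    · exact Or.inr (Or.inr ⟨h0, h1⟩)
    · exact Or.inl h1
  · exact Or.inr (Or.inl h0)

theorem not_mem_both {p : ↥(CohB1.ProjSpaceOver 1 X)} {i : Fin (1 + 1)} (h : p ∈ Set.range (P1.sect X i)) :
    p ∉ Set.range (P1.sect X i.rev) := by
  obtain ⟨x, rfl⟩ := h
  rw [range_sect, Fin.rev_rev]
  exact fun hn => hn (sect_mem i x)

/-- The top points of the support avoid the sections. -/
theorem mem_both_of_top {k : ℤ} {F : (CohB1.ProjSpaceOver 1 X).Modules} {δP : ↥(CohB1.ProjSpaceOver 1 X) → ℤ}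
    (hδ : ∀ p, Nontrivial (F.presheaf.stalk p) →
      p ∈ Set.range (P1.sect X 0) ∪ Set.range (P1.sect X 1) → δP p ≤ k)
    {ξ : ↥(CohB1.ProjSpaceOver 1 X)} (hξ : Nontrivial (F.presheaf.stalk ξ)) (hd : δP ξ = k + 1) :
    ξ ∈ chartOpen X 0 ∧ ξ ∈ chartOpen X 1 := by
  rcases mem_range_or ξ with h | h | h
  · have := hδ ξ hξ (Or.inl h)
    omega
  · have := hδ ξ hξ (Or.inr h)
    omega
  · exact h

/-- The coordinate is regular on a module at the points of a section of dimension `k`. -/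
theorem coord_regular {δP : ↥(CohB1.ProjSpaceOver 1 X) → ℤ} (hP' : Cyc.IsSetup _ δP) {k : ℤ}
    {F : (CohB1.ProjSpaceOver 1 X).Modules} (hF : Coh.IsCoh F)
    (hemb : ∀ p, IsAssociatedPrime (maximalIdeal ((CohB1.ProjSpaceOver 1 X).presheaf.stalk p))
        (F.presheaf.stalk p) → p ∉ Set.range (P1.sect X 0) ∪ Set.range (P1.sect X 1) ∨ δP p < k)
    {i : Fin (1 + 1)} (x : X) (hk : δP (P1.sect X i x) = k) :
    Function.Injective (fun m : F.presheaf.stalk (P1.sect X i x) =>
      (CohB1.ProjSpaceOver 1 X).presheaf.germ _ _ (sect_mem i x) (t X i) • m) := by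
  haveI := hP'.1
  haveI : Coh.IsQCoh F := hF.1
  refine regular_of_assoc hF.2 _ _ fun Q hQ hass => ?_
  have hsp := EquidimLib.stalkPt_specializes (P1.sect X i x) Q
  have hqi := hsp.mem_open (chartOpen X i).isOpen (sect_mem i x)
  have hqs : EquidimLib.stalkPt _ Q ∈ Set.range (P1.sect X i) := by
    rw [← germ_t_mem_iff hqi, ← IsLocalRing.residue_eq_zero_iff]
    refine (CycPushLib.specMap_germ hsp (sect_mem i x) hqi (t X i)).symm.trans
      ((CycDivLib.specMap_eq_zero_iff hsp _).2 ?_)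
    rwa [show CycDivLib.primeOf hsp = Q from
      EquidimLib.stalkPt_injective _ (CycDivLib.stalkPt_primeOf hsp)]
  have hlt : δP (EquidimLib.stalkPt (P1.sect X i x) Q) < k := by
    refine (hemb _ hass).resolve_left fun h => h ?_
    rcases eq_or_rev i 0 with rfl | rfl
    · exact Or.inl hqs
    · exact Or.inr hqs
  by_cases he : EquidimLib.stalkPt (P1.sect X i x) Q = P1.sect X i x
  · rw [he] at hlt
    omega
  · have := (hP'.2.2 _ _ hsp he).1
    omega

/-- The divisor of the coordinate along the zero section. -/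
theorem finsum_divFun_zero {δP : ↥(CohB1.ProjSpaceOver 1 X) → ℤ}
    (hP' : Cyc.IsSetup _ δP) (hP : Cyc.DeltaCompat (CohB1.ProjSpaceOver.toBase 1 X) δP δ) {k : ℤ}
    {F : (CohB1.ProjSpaceOver 1 X).Modules} (hF : Coh.IsCoh F)
    (hsupp : ∀ p, Nontrivial (F.presheaf.stalk p) → δP p ≤ k + 1)
    (hδ : ∀ p, Nontrivial (F.presheaf.stalk p) →
      p ∈ Set.range (P1.sect X 0) ∪ Set.range (P1.sect X 1) → δP p ≤ k)
    (hemb : ∀ p, IsAssociatedPrime (maximalIdeal ((CohB1.ProjSpaceOver 1 X).presheaf.stalk p))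
        (F.presheaf.stalk p) → p ∉ Set.range (P1.sect X 0) ∪ Set.range (P1.sect X 1) ∨ δP p < k)
    (x : X) (hk : δ x = k) :
    ∑ᶠ ξ, Cyc.sheafFun δP (k + 1) F ξ * Cyc.divFun δP ξ (coordFun ξ) (P1.sect X 0 x) = fibreFun δ k F 0 x := by
  have hpk : δP (P1.sect X 0 x) = k := (delta_sect hP 0 x).trans hk
  rw [fibreFun, if_pos hk]
  refine length_quot_eq_finsum_divFun hP' hF hsupp hpk _ (coord_regular hP' hF hemb x hpk) _ fun ξ hξ hn hd => ?_
  have hm := mem_both_of_top hδ hn hd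
  refine ⟨?_, coordFun_ne_zero ξ⟩
  rw [coordFun, dif_pos ⟨hm.1, hm.2⟩, CycPushLib.specMap_germ hξ (sect_mem 0 x) hm.1]

/-- The divisor of the coordinate along the section at infinity. -/
theorem finsum_divFun_infty {δP : ↥(CohB1.ProjSpaceOver 1 X) → ℤ}
    (hP' : Cyc.IsSetup _ δP) (hP : Cyc.DeltaCompat (CohB1.ProjSpaceOver.toBase 1 X) δP δ) {k : ℤ}
    {F : (CohB1.ProjSpaceOver 1 X).Modules} (hF : Coh.IsCoh F)
    (hsupp : ∀ p, Nontrivial (F.presheaf.stalk p) → δP p ≤ k + 1)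
    (hδ : ∀ p, Nontrivial (F.presheaf.stalk p) →
      p ∈ Set.range (P1.sect X 0) ∪ Set.range (P1.sect X 1) → δP p ≤ k)
    (hemb : ∀ p, IsAssociatedPrime (maximalIdeal ((CohB1.ProjSpaceOver 1 X).presheaf.stalk p))
        (F.presheaf.stalk p) → p ∉ Set.range (P1.sect X 0) ∪ Set.range (P1.sect X 1) ∨ δP p < k)
    (x : X) (hk : δ x = k) :
    ∑ᶠ ξ, Cyc.sheafFun δP (k + 1) F ξ * Cyc.divFun δP ξ (coordFun ξ) (P1.sect X 1 x) = -fibreFun δ k F 1 x := by
  have hpk : δP (P1.sect X 1 x) = k := (delta_sect hP 1 x).trans hk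
  rw [fibreFun, if_pos hk,
    ← length_quot_eq_finsum_divFun hP' hF hsupp hpk _ (coord_regular hP' hF hemb x hpk) (fun ξ => (coordFun ξ)⁻¹)
      (fun ξ hξ hn hd => ?_), ← finsum_neg_distrib]
  · exact finsum_congr fun ξ => by
      rw [CycC1Lib.divFun_inv hP' (coordFun_ne_zero ξ)]
      ring
  · have hm := mem_both_of_top hδ hn hd
    refine ⟨inv_eq_of_mul_eq_one_right ?_, inv_ne_zero (coordFun_ne_zero ξ)⟩
    rw [coordFun, dif_pos ⟨hm.1, hm.2⟩, CycPushLib.specMap_germ hξ (sect_mem 1 x) hm.2]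
    exact ((map_mul ((CohB1.ProjSpaceOver 1 X).residue ξ).hom _ _).symm.trans
      (congrArg _ (germ_t_mul (i := 0) hm.1 hm.2))).trans (map_one _)

/-- The divisor of the coordinate vanishes off the sections. -/
theorem finsum_divFun_open {δP : ↥(CohB1.ProjSpaceOver 1 X) → ℤ} (hP' : Cyc.IsSetup _ δP) {k : ℤ}
    {F : (CohB1.ProjSpaceOver 1 X).Modules} (hF : Coh.IsCoh F)
    (hsupp : ∀ p, Nontrivial (F.presheaf.stalk p) → δP p ≤ k + 1)
    {p : ↥(CohB1.ProjSpaceOver 1 X)} (h0 : p ∈ chartOpen X 0) (h1 : p ∈ chartOpen X 1) :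
    ∑ᶠ ξ, Cyc.sheafFun δP (k + 1) F ξ * Cyc.divFun δP ξ (coordFun ξ) p = 0 := by
  let P := CohB1.ProjSpaceOver 1 X
  by_cases hpk : δP p = k
  swap
  · refine finsum_eq_zero_of_forall_eq_zero fun ξ => ?_
    by_cases hξ : δP ξ = k + 1
    · rw [Cyc.divFun, dif_neg fun h => hpk (by omega), mul_zero]
    · rw [show Cyc.sheafFun δP (k + 1) F ξ = 0 from if_neg hξ, zero_mul]
  have hu : IsUnit (P.presheaf.germ _ p h0 (t X 0)) := isUnit_germ_t h0 h1
  refine (length_quot_eq_finsum_divFun hP' hF hsupp hpk (P.presheaf.germ _ p h0 (t X 0)) ?_ coordFun fun ξ hξ _ _ => ?_).trans ?_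
  · intro m m' e
    exact hu.smul_left_cancel.1 e
  · refine ⟨?_, coordFun_ne_zero ξ⟩
    rw [coordFun, dif_pos ⟨hξ.mem_open (chartOpen X 0).isOpen h0, hξ.mem_open (chartOpen X 1).isOpen h1⟩,
      CycPushLib.specMap_germ hξ h0 (hξ.mem_open (chartOpen X 0).isOpen h0)]
  · have htop : P.presheaf.germ _ p h0 (t X 0) • (⊤ : Submodule (P.presheaf.stalk p) (F.presheaf.stalk p)) = ⊤ :=
      eq_top_iff.2 fun m _ => by
        obtain ⟨v, hv⟩ := hu.exists_left_inv
        rw [← one_smul (P.presheaf.stalk p) m, ← hv, mul_comm, mul_smul]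
        exact Submodule.smul_mem_pointwise_smul _ _ _ trivial
    rw [htop]
    haveI : Subsingleton (F.presheaf.stalk p ⧸ (⊤ : Submodule (P.presheaf.stalk p) (F.presheaf.stalk p))) :=
      Submodule.Quotient.subsingleton_iff.2 rfl
    rw [Module.length_eq_zero_iff.2 this]
    rfl

/-- The fibres at zero and infinity of a coherent module are rationally equivalent. -/
theorem ratEquiv_fibres (hX : Cyc.IsSetup X δ) {δP : ↥(CohB1.ProjSpaceOver 1 X) → ℤ}
    (hP : Cyc.DeltaCompat (CohB1.ProjSpaceOver.toBase 1 X) δP δ) {k : ℤ} {F : (CohB1.ProjSpaceOver 1 X).Modules}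
    (hF : Coh.IsCoh F) (hsupp : ∀ p, Nontrivial (F.presheaf.stalk p) → δP p ≤ k + 1)
    (hδ : ∀ p, Nontrivial (F.presheaf.stalk p) →
      p ∈ Set.range (P1.sect X 0) ∪ Set.range (P1.sect X 1) → δP p ≤ k)
    (hemb : ∀ p, IsAssociatedPrime (maximalIdeal ((CohB1.ProjSpaceOver 1 X).presheaf.stalk p))
        (F.presheaf.stalk p) → p ∉ Set.range (P1.sect X 0) ∪ Set.range (P1.sect X 1) ∨ δP p < k)
    (α β : AlgebraicCycle X ℤ) (hα : ⇑α = fibreFun δ k F 0) (hβ : ⇑β = fibreFun δ k F 1) :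
    Cyc.RatEquiv δ k α β := by
  classical
  have hP' := isSetup_proj hX hP
  haveI := hX.1
  haveI := hP'.1
  haveI : Coh.IsQCoh F := hF.1
  let P := CohB1.ProjSpaceOver 1 X
  let D := sheafCyc hP' hF hsupp
  have hαZ : α ∈ Cyc.Zk X δ k := fun x hx => by rw [hα]; exact if_neg hx
  have hβZ : β ∈ Cyc.Zk X δ k := fun x hx => by rw [hβ]; exact if_neg hx
  let a := AlgebraicCycle.map (P1.sect X 0) δ δP α
  let b := AlgebraicCycle.map (P1.sect X 1) δ δP β
  have hval : ∀ (i : Fin (1 + 1)) (c : AlgebraicCycle X ℤ) (x : X),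
      AlgebraicCycle.map (P1.sect X i) δ δP c (P1.sect X i x) = c x := fun i c x =>
    CycBivLib.map_apply_of_unique _ _ _ _ _ (delta_sect hP i x).symm
      (CycPushLib.residueDegree_eq_one_of_preimmersion _ _)
      (fun t' ht _ => (P1.sect X i).isClosedEmbedding.injective ht)
  have hzero : ∀ (i : Fin (1 + 1)) (c : AlgebraicCycle X ℤ) (p : P), p ∉ Set.range (P1.sect X i) →
      AlgebraicCycle.map (P1.sect X i) δ δP c p = 0 := fun i c p hp =>
    CycBivLib.map_apply_eq_zero _ _ _ _ _ fun x hx => absurd ⟨x, hx⟩ hp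
  have haZ : a ∈ Cyc.Zk P δP k := fun p hp => by
    by_cases h : p ∈ Set.range (P1.sect X 0)
    · obtain ⟨x, rfl⟩ := h
      exact (hval 0 α x).trans (hαZ x (by rwa [← delta_sect hP 0 x]))
    · exact hzero 0 α p h
  have hbZ : b ∈ Cyc.Zk P δP k := fun p hp => by
    by_cases h : p ∈ Set.range (P1.sect X 1)
    · obtain ⟨x, rfl⟩ := h
      exact (hval 1 β x).trans (hβZ x (by rwa [← delta_sect hP 1 x]))
    · exact hzero 1 β p h
  -- the principal divisors
  have key : ∀ (p : P), ∑ᶠ ξ, D ξ * Cyc.divFun δP ξ (coordFun ξ) p = a p - b p := by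
    intro p
    by_cases hpk : δP p = k
    swap
    · rw [finsum_eq_zero_of_forall_eq_zero, haZ p hpk, hbZ p hpk, sub_self]
      intro ξ
      by_cases hξ : δP ξ = k + 1
      · rw [Cyc.divFun, dif_neg fun h => hpk (by omega), mul_zero]
      · rw [show D ξ = 0 from if_neg hξ, zero_mul]
    rcases mem_range_or p with h | h | ⟨h0, h1⟩
    · obtain ⟨x, rfl⟩ := h
      rw [show a (P1.sect X 0 x) = α x from hval 0 α x,
        show b (P1.sect X 0 x) = 0 from hzero 1 β _ (not_mem_both (i := 0) ⟨x, rfl⟩), sub_zero, hα]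
      exact finsum_divFun_zero hP' hP hF hsupp hδ hemb x ((delta_sect hP 0 x).symm.trans hpk)
    · obtain ⟨x, rfl⟩ := h
      rw [show b (P1.sect X 1 x) = β x from hval 1 β x,
        show a (P1.sect X 1 x) = 0 from hzero 0 α _ (not_mem_both (i := 1) ⟨x, rfl⟩), zero_sub, hβ]
      exact finsum_divFun_infty hP' hP hF hsupp hδ hemb x ((delta_sect hP 1 x).symm.trans hpk)
    · rw [show a p = 0 from hzero 0 α p (by rw [range_sect]; exact fun hn => hn h1),
        show b p = 0 from hzero 1 β p (by rw [range_sect]; exact fun hn => hn h0), sub_zero]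
      exact finsum_divFun_open hP' hF hsupp h0 h1
  have hrat : Cyc.RatEquiv δP k a b := by
    refine CycC1Lib.ratEquivZero_of_weighted hP' D (sheafCyc_mem_Zk hP' hF hsupp) coordFun coordFun_ne_zero _
      fun p S hS => ?_
    show a p - b p = _
    rw [← key p]
    refine finsum_eq_sum_of_support_subset _ fun ξ hξ => hS ξ (left_ne_zero_of_mul hξ) ?_
    by_contra hns
    exact right_ne_zero_of_mul hξ (CycC1Lib.divFun_eq_zero_of_not_specializes hns _)
  have h1 := Groth.Agent.S1855.result P X δP δ hP' hX (CohB1.ProjSpaceOver.toBase 1 X) hP k a b haZ hbZ hrat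
  have hid : ∀ (i : Fin (1 + 1)) (c : AlgebraicCycle X ℤ), c ∈ Cyc.Zk X δ k →
      AlgebraicCycle.map (CohB1.ProjSpaceOver.toBase 1 X) δP δ (AlgebraicCycle.map (P1.sect X i) δ δP c) = c := by
    intro i c hc
    rw [Groth.Agent.S1859.result X P X δ δP δ hX hP' hX (P1.sect X i) (CohB1.ProjSpaceOver.toBase 1 X)
      (deltaCompat_sect hP i) hP k c hc]
    refine Function.locallyFinsuppWithin.ext fun x => ?_
    have e := toBase_sect i x
    conv_lhs => rw [show x = (P1.sect X i ≫ CohB1.ProjSpaceOver.toBase 1 X) x from e.symm]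
    refine CycBivLib.map_apply_of_unique _ _ _ _ x ?_ ?_ fun x' hx' _ => ?_
    · exact (congrArg δ e).symm
    · rw [CycPushLib.residueDegree_congr (sect_toBase i) x]
      exact CycPushLib.residueDegree_eq_one_of_preimmersion (𝟙 X) x
    · exact (toBase_sect i x').symm.trans (hx'.trans e)
  show Cyc.RatEquiv δ k α β
  rw [show a = _ from rfl, show b = _ from rfl] at h1
  rwa [hid 0 α hαZ, hid 1 β hβZ] at h1

end CycP1Lib

end
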