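import Mathlib
import Groth.Agent.CycP1Lib.Main
import Groth.Agent.CycLimLib.Sheaf
import Groth.Agent.CycGysLib.ZeroScheme
import Groth.Agent.DvrLenLib.Stalks

/-!
# The fibres of a closed subscheme of the projective line
-/

set_option autoImplicit false
set_option linter.style.haveILetI false

universe u

open AlgebraicGeometry CategoryTheory CategoryTheory.Limits IsLocalRing Opposite
open scoped Pointwise

noncomputable section

namespace CycP1Lib

variable {X Z : Scheme.{u}}

/-- The stalk of the direct image of the structure sheaf of a closed subscheme. -/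
theorem exists_stalk_push_structure {Y : Scheme.{u}} (i : Z ⟶ Y) [IsClosedImmersion i] (z : Z) :
    letI : Algebra (Y.presheaf.stalk (i z)) (Z.presheaf.stalk z) := (i.stalkMap z).hom.toAlgebra
    Nonempty (((Coh.push i).obj (Coh.structureModule Z)).presheaf.stalk (i z) ≃ₗ[Y.presheaf.stalk (i z)]
      Z.presheaf.stalk z) := by
  letI : Algebra (Y.presheaf.stalk (i z)) (Z.presheaf.stalk z) := (i.stalkMap z).hom.toAlgebra
  obtain ⟨U, s, hU, hsU⟩ := TwistLib.exists_genOn (M := Coh.structureModule Z)
    (fun _ => ⟨⊤, trivial, ⟨Scheme.Modules.restrictUnitIso _⟩⟩) z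
  let g : (Coh.structureModule Z).presheaf.stalk z := (Coh.structureModule Z).presheaf.germ U z hU s
  letI : Module (Y.presheaf.stalk (i z)) ((Coh.structureModule Z).presheaf.stalk z) :=
    Module.compHom _ (i.stalkMap z).hom
  haveI : IsScalarTower (Y.presheaf.stalk (i z)) (Z.presheaf.stalk z) ((Coh.structureModule Z).presheaf.stalk z) :=
    IsScalarTower.of_compHom _ _ _
  let σ := (TopCat.Presheaf.stalkPushforward AddCommGrpCat i.base (Coh.structureModule Z).presheaf z).hom
  let σ' : ((Coh.push i).obj (Coh.structureModule Z)).presheaf.stalk (i z) →ₗ[Y.presheaf.stalk (i z)]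
      (Coh.structureModule Z).presheaf.stalk z :=
    { toFun := fun a => σ a
      map_add' := fun a b => map_add σ a b
      map_smul' := fun c a => DegPullLib.stalkPushforward_smul i (Coh.structureModule Z) z c a }
  let e := LinearEquiv.ofBijective σ' (DegPullLib.bijective_stalkPushforward i i.isClosedEmbedding.isClosedMap
    (Coh.structureModule Z) z fun w hw => i.isClosedEmbedding.injective hw)
  let e₂ := LinearEquiv.ofBijective (LinearMap.toSpanSingleton (Z.presheaf.stalk z) _ g) (hsU.genAt hU)
  exact ⟨e.trans (e₂.symm.restrictScalars (Y.presheaf.stalk (i z)))⟩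

theorem subsingleton_stalk_push {Y : Scheme.{u}} (i : Z ⟶ Y) [IsClosedImmersion i] {y : Y}
    (h : y ∉ Set.range i) : Subsingleton (((Coh.push i).obj (Coh.structureModule Z)).presheaf.stalk y) :=
  not_not.mp fun hs => h (DevissLib.support_push_subset i (Coh.structureModule Z) hs)

theorem isAssociatedPrime_push {Y : Scheme.{u}} [IsLocallyNoetherian Y] (i : Z ⟶ Y) [IsClosedImmersion i] (y : Y)
    (h : IsAssociatedPrime (maximalIdeal (Y.presheaf.stalk y))
      (((Coh.push i).obj (Coh.structureModule Z)).presheaf.stalk y)) :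
    ∃ z : Z, i z = y ∧ IsAssociatedPrime (maximalIdeal (Z.presheaf.stalk z)) (Z.presheaf.stalk z) := by
  haveI := LocallyOfFiniteType.isLocallyNoetherian i
  by_cases hy : y ∈ Set.range i
  swap
  · haveI := subsingleton_stalk_push i hy
    obtain ⟨hp, m, hm⟩ := isAssociatedPrime_iff.1 h
    refine absurd ?_ hp.ne_top
    rw [hm, Subsingleton.elim m 0, eq_top_iff]
    intro r _
    rw [Submodule.mem_colon_singleton, smul_zero]
    exact zero_mem _
  obtain ⟨z, rfl⟩ := hy
  letI : Algebra (Y.presheaf.stalk (i z)) (Z.presheaf.stalk z) := (i.stalkMap z).hom.toAlgebra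
  obtain ⟨e⟩ := exists_stalk_push_structure i z
  exact ⟨z, rfl, (DvrLenLib.isAssociatedPrime_maximal_of_surjective (O := Y.presheaf.stalk (i z))
    (O' := Z.presheaf.stalk z) (i.stalkMap_surjective z) (Z.presheaf.stalk z)).2
    ((LinearEquiv.isAssociatedPrime_iff e).1 h)⟩

/-- The fibre of a closed subscheme is the fibre of its structure sheaf. -/
theorem subschemeFun_eq_fibreFun (δ : X → ℤ) (k : ℤ) (ι : Z ⟶ CohB1.ProjSpaceOver 1 X) [IsClosedImmersion ι]
    (i : Fin (1 + 1)) :
    Cyc.subschemeFun δ k (pullback.snd ι (P1.sect X i)) =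
      fibreFun δ k ((Coh.push ι).obj (Coh.structureModule Z)) i := by
  funext x
  simp only [Cyc.subschemeFun, fibreFun]
  split_ifs with hx
  swap
  · rfl
  by_cases h : P1.sect X i x ∈ Set.range ι
  swap
  · haveI := subsingleton_stalk_push ι h
    haveI : Subsingleton (((Coh.push ι).obj (Coh.structureModule Z)).presheaf.stalk (P1.sect X i x) ⧸
        (CohB1.ProjSpaceOver 1 X).presheaf.germ _ _ (sect_mem i x) (t X i) •
          (⊤ : Submodule ((CohB1.ProjSpaceOver 1 X).presheaf.stalk (P1.sect X i x))
            (((Coh.push ι).obj (Coh.structureModule Z)).presheaf.stalk (P1.sect X i x)))) :=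
      (Submodule.Quotient.mk_surjective _).subsingleton
    rw [show {w : ↥(pullback ι (P1.sect X i)) | pullback.snd ι (P1.sect X i) w = x} = ∅ from
      Set.eq_empty_of_forall_notMem fun w (hw : pullback.snd ι (P1.sect X i) w = x) => h
        ⟨pullback.fst ι (P1.sect X i) w, by
          rw [← Scheme.Hom.comp_apply, pullback.condition, Scheme.Hom.comp_apply, hw]⟩,
      finsum_mem_empty, Module.length_eq_zero]
    simp
  obtain ⟨z, hz⟩ := h
  obtain ⟨w, hw1, hw2⟩ := Scheme.Pullback.exists_preimage_pullback z x hz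
  rw [show {v : ↥(pullback ι (P1.sect X i)) | pullback.snd ι (P1.sect X i) v = x} = {w} from Set.ext fun v =>
    ⟨fun hv => (pullback.snd ι (P1.sect X i)).isClosedEmbedding.injective (hv.trans hw2.symm),
      fun hv => (congrArg _ hv).trans hw2⟩, finsum_mem_singleton]
  subst hw1 hw2
  let Q := CohB1.ProjSpaceOver 1 X
  have hc : ι (pullback.fst ι (P1.sect X i) w) = P1.sect X i (pullback.snd ι (P1.sect X i) w) := hz
  have hU : ι (pullback.fst ι (P1.sect X i) w) ∈ chartOpen X i := hc ▸ sect_mem i _
  have hker := CycGysLib.ker_stalkMap_fst ι (P1.sect X i) w hU (sect_mem i _) (t X i)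
    (ker_stalkMap_sect i (pullback.snd ι (P1.sect X i) w))
  have key : ∀ (y : Q) (hy : y ∈ chartOpen X i) (_ : ι (pullback.fst ι (P1.sect X i) w) = y),
      Module.length (Q.presheaf.stalk y) (((Coh.push ι).obj (Coh.structureModule Z)).presheaf.stalk y ⧸
        Q.presheaf.germ _ y hy (t X i) •
          (⊤ : Submodule (Q.presheaf.stalk y) (((Coh.push ι).obj (Coh.structureModule Z)).presheaf.stalk y))) =
      Module.length ((pullback ι (P1.sect X i)).presheaf.stalk w) ((pullback ι (P1.sect X i)).presheaf.stalk w) := by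
    rintro y hy rfl
    let z := pullback.fst ι (P1.sect X i) w
    let R : Type u := Q.presheaf.stalk (ι z)
    let S : Type u := Z.presheaf.stalk z
    let T : Type u := (pullback ι (P1.sect X i)).presheaf.stalk w
    letI : Algebra R S := (ι.stalkMap z).hom.toAlgebra
    obtain ⟨e⟩ := exists_stalk_push_structure ι z
    let φ : R := Q.presheaf.germ _ _ hy (t X i)
    have hsS : Function.Surjective (algebraMap R S) := ι.stalkMap_surjective z
    let π : S →+* T := ((pullback.fst ι (P1.sect X i)).stalkMap w).hom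
    have hπ : RingHom.ker π = Ideal.span {algebraMap R S φ} := hker
    have hπs : Function.Surjective π := (pullback.fst ι (P1.sect X i)).stalkMap_surjective w
    have hI : (φ • (⊤ : Submodule R S)) = (Ideal.span {algebraMap R S φ}).restrictScalars R := by
      ext s
      rw [Submodule.restrictScalars_mem, Ideal.mem_span_singleton', Submodule.mem_smul_pointwise_iff_exists]
      constructor
      · rintro ⟨a, -, rfl⟩
        exact ⟨a, by rw [Algebra.smul_def, mul_comm]⟩
      · rintro ⟨a, rfl⟩
        exact ⟨a, trivial, by rw [Algebra.smul_def, mul_comm]⟩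
    calc Module.length R (((Coh.push ι).obj (Coh.structureModule Z)).presheaf.stalk (ι z) ⧸ φ • ⊤)
        = Module.length R (S ⧸ φ • (⊤ : Submodule R S)) :=
          (Submodule.Quotient.equiv _ _ e (by
            rw [Submodule.map_pointwise_smul, Submodule.map_top, LinearEquiv.range])).length_eq
      _ = Module.length R (S ⧸ (Ideal.span {algebraMap R S φ}).restrictScalars R) :=
          (Submodule.quotEquivOfEq _ _ hI).length_eq
      _ = Module.length R (S ⧸ Ideal.span {algebraMap R S φ}) :=
          (Submodule.Quotient.restrictScalarsEquiv R (Ideal.span {algebraMap R S φ})).length_eq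
      _ = Module.length S (S ⧸ Ideal.span {algebraMap R S φ}) :=
          Module.length_eq_of_surjective (S := R) (R := S) (M := S ⧸ Ideal.span {algebraMap R S φ}) hsS
      _ = Module.length T T := by
          letI : Algebra S T := π.toAlgebra
          rw [← Module.length_eq_of_surjective (S := S) (R := T) (M := T) hπs]
          exact ((Submodule.quotEquivOfEq _ _ (show Ideal.span {algebraMap R S φ} = LinearMap.ker (Algebra.linearMap S T)
            from hπ.symm)).trans (LinearMap.quotKerEquivOfSurjective (Algebra.linearMap S T) hπs)).length_eq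
  rw [key _ (sect_mem i _) hc]

/-- Rational equivalence of the fibres of a closed subscheme. -/
theorem ratEquiv_subscheme {δ : X → ℤ} (hX : Cyc.IsSetup X δ) {δP : ↥(CohB1.ProjSpaceOver 1 X) → ℤ}
    (hP : Cyc.DeltaCompat (CohB1.ProjSpaceOver.toBase 1 X) δP δ) {k : ℤ} (ι : Z ⟶ CohB1.ProjSpaceOver 1 X)
    [IsClosedImmersion ι] (hZ : ∀ z : Z, δP (ι z) ≤ k + 1)
    (hZ0 : ∀ z : Z, ι z ∈ Set.range ⇑(P1.sect X 0) ∪ Set.range ⇑(P1.sect X 1) → δP (ι z) ≤ k)
    (hemb : ∀ z : Z, IsAssociatedPrime (maximalIdeal (Z.presheaf.stalk z)) (Z.presheaf.stalk z) →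
      ι z ∉ Set.range ⇑(P1.sect X 0) ∪ Set.range ⇑(P1.sect X 1) ∨ δP (ι z) < k)
    (α β : AlgebraicCycle X ℤ) (hα : ⇑α = Cyc.subschemeFun δ k (pullback.snd ι (P1.sect X 0)))
    (hβ : ⇑β = Cyc.subschemeFun δ k (pullback.snd ι (P1.sect X 1))) : Cyc.RatEquiv δ k α β := by
  haveI := (isSetup_proj hX hP).1
  haveI := LocallyOfFiniteType.isLocallyNoetherian ι
  have hrange : ∀ p, Nontrivial (((Coh.push ι).obj (Coh.structureModule Z)).presheaf.stalk p) → p ∈ Set.range ι :=
    fun p hp => by_contra fun h => by
      haveI := subsingleton_stalk_push ι h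
      exact not_nontrivial _ hp
  refine ratEquiv_fibres hX hP (QCohLib.isCoh_push_finite ι _ (DevissLib.isCoh_structureModule Z)) (fun p hp => ?_)
    (fun p hp hps => ?_) (fun p hp => ?_) α β (hα.trans (subschemeFun_eq_fibreFun δ k ι 0))
    (hβ.trans (subschemeFun_eq_fibreFun δ k ι 1))
  · obtain ⟨z, rfl⟩ := hrange p hp
    exact hZ z
  · obtain ⟨z, rfl⟩ := hrange p hp
    exact hZ0 z hps
  · obtain ⟨z, rfl, hz⟩ := isAssociatedPrime_push ι p hp
    exact hemb z hz

end CycP1Lib

end
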