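import Mathlib
import Groth.Agent.CycP1Lib.Subscheme
import Groth.Agent.CycPushLib.Closed

/-!
# Subvarieties of the projective line as graphs of rational functions
-/

set_option autoImplicit false
set_option linter.style.haveILetI false

universe u

open AlgebraicGeometry CategoryTheory CategoryTheory.Limits IsLocalRing Opposite
open ChowLib HomogeneousLocalization
open CycDivLib (gpull)

noncomputable section

namespace CycP1Lib

variable {X : Scheme.{u}}

theorem isReduced_image {S Y : Scheme.{u}} (f : S ⟶ Y) [QuasiCompact f] [IsReduced S] : IsReduced f.image := by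
  refine ⟨fun U => ⟨fun s hs => ?_⟩⟩
  have h0 : (f.toImage.app U).hom s = 0 := (hs.map _).eq_zero
  apply TopCat.Presheaf.section_ext f.image.sheaf U s 0
  intro x hx
  change f.image.presheaf.germ U x hx s = f.image.presheaf.germ U x hx 0
  apply f.stalkFunctor_toImage_injective x
  rw [TopCat.Presheaf.stalkFunctor_map_germ_apply, TopCat.Presheaf.stalkFunctor_map_germ_apply]
  exact congrArg _ (h0.trans (map_zero _).symm)

theorem isGenericPoint_toImage {S Y : Scheme.{u}} (f : S ⟶ Y) [QuasiCompact f] [IsIntegral S] :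
    IsGenericPoint (f.toImage (genericPoint S)) (Set.univ : Set f.image) := by
  have h := ((genericPoint_spec S).image f.toImage.continuous)
  rwa [Set.image_univ, f.toImage.denseRange.closure_range] at h

theorem isIntegral_image {S Y : Scheme.{u}} (f : S ⟶ Y) [QuasiCompact f] [IsIntegral S] :
    IsIntegral f.image := by
  haveI := isReduced_image f
  haveI : IrreducibleSpace f.image := (irreducibleSpace_def _).2 (isGenericPoint_toImage f).isIrreducible
  exact isIntegral_of_irreducibleSpace_of_isReduced f.image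

theorem imageι_genericPoint {S Y : Scheme.{u}} (f : S ⟶ Y) [QuasiCompact f] [IsIntegral S] [IsIntegral f.image] :
    f.imageι (genericPoint f.image) = f (genericPoint S) := by
  rw [(genericPoint_spec f.image).eq (isGenericPoint_toImage f), ← Scheme.Hom.comp_apply,
    Scheme.Hom.toImage_imageι]

theorem chartMap_coordRing (B : Type u) [CommRing B] (b : B) :
    P1.chartMap.{u} 0 B b (coordRing 0 1) = b := by
  let i : Fin (1 + 1) := 0
  let j : Fin (1 + 1) := 1
  have h : (coordRing.{u} i j).val * algebraMap _ (Localization.Away (P1.T.{u} i)) (P1.T.{u} i ^ 1) =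
      algebraMap _ (Localization.Away (P1.T.{u} i)) (P1.T.{u} j) := by
    rw [coordRing, Away.val_mk, Localization.mk_eq_mk']
    exact IsLocalization.mk'_spec _ _ _
  simp only [P1.chartMap, RingHom.comp_apply, HomogeneousLocalization.algebraMap_apply]
  have hu : IsUnit (MvPolynomial.eval₂Hom ((Int.castRingHom B).comp ULift.ringEquiv.toRingHom)
      (Function.update (fun _ => b) i 1) (P1.T.{u} i)) := by simp
  show IsLocalization.Away.lift (S := Localization.Away (P1.T.{u} i)) (P1.T.{u} i) hu _ = _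
  have h2 := congrArg (IsLocalization.Away.lift (S := Localization.Away (P1.T.{u} i)) (P1.T.{u} i) hu) h
  rw [map_mul, IsLocalization.Away.lift_eq, IsLocalization.Away.lift_eq] at h2
  simpa [i, j, Function.update] using h2

theorem residueFieldMap_evaluation {S Y : Scheme.{u}} (g : S ⟶ Y) (V : Y.Opens) (W : S.Opens)
    (h : W ≤ g ⁻¹ᵁ V) (s : S) (hs : s ∈ W) (a : Γ(Y, V)) :
    g.residueFieldMap s (Y.evaluation V (g s) (h hs) a) = S.evaluation W s hs (g.appLE V W h a) := by
  rw [Scheme.evaluation_naturality_apply]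
  refine congrArg (S.residue s) ?_
  rw [Scheme.Hom.appLE, CommRingCat.comp_apply]
  exact (TopCat.Presheaf.germ_res_apply S.presheaf _ s hs _).symm

/-- The value of the coordinate at a point given through the chart at zero. -/
theorem coordFun_point {S : Scheme.{u}} (g : S ⟶ CohB1.ProjSpaceOver 1 X)
    (ψ : Away (gr.{u} 1) (MvPolynomial.X (0 : Fin (1 + 1)) : MvPolynomial (Fin (1 + 1)) Z.{u}) →+* Γ(S, ⊤))
    (hg : g ≫ toPZ 1 X = toSpecOf ψ ≫ chart 0) (s : S)
    (hne : S.evaluation ⊤ s trivial (ψ (coordRing 0 1)) ≠ 0) :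
    (g s ∈ chartOpen X 0 ∧ g s ∈ chartOpen X 1) ∧
      g.residueFieldMap s (coordFun (g s)) = S.evaluation ⊤ s trivial (ψ (coordRing 0 1)) := by
  have hle : ⊤ ≤ (g ≫ toPZ 1 X) ⁻¹ᵁ Dplus.{u} 0 := by
    rw [hg]
    intro z _
    rw [← opensRange_chart]
    exact ⟨_, rfl⟩
  have hle' : ⊤ ≤ g ⁻¹ᵁ chartOpen X 0 := hle
  have key : g.appLE (chartOpen X 0) ⊤ hle' (t X 0) = ψ (coordRing 0 1) := by
    have e : ∀ (q : S ⟶ PZ.{u} 1) (_ : q = toSpecOf ψ ≫ chart 0) (h : ⊤ ≤ q ⁻¹ᵁ Dplus.{u} 0),
        q.appLE (Dplus 0) ⊤ h (AmpleThLib.cj 0 1) = ψ (coordRing 0 1) := by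
      rintro q rfl h
      exact AmpleThLib.toSpecOf_awayι_appLE (gr.{u} 1) (X_mem 0) one_pos ψ h (coordRing 0 1)
    rw [t_eq, Scheme.Hom.app_eq_appLE, ← CommRingCat.comp_apply, Scheme.Hom.appLE_comp_appLE]
    exact e _ hg hle
  have heval : g.residueFieldMap s ((CohB1.ProjSpaceOver 1 X).evaluation (chartOpen X 0) (g s) (hle' trivial) (t X 0)) =
      S.evaluation ⊤ s trivial (ψ (coordRing 0 1)) := by
    rw [residueFieldMap_evaluation g (chartOpen X 0) ⊤ hle' s trivial (t X 0), key]
  have h1 : g s ∈ chartOpen X 1 := by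
    by_contra h
    have hmem : g s ∈ Set.range (P1.sect X 0) := by rw [range_sect]; exact h
    refine hne (heval.symm.trans ?_)
    rw [show (CohB1.ProjSpaceOver 1 X).evaluation (chartOpen X 0) (g s) (hle' trivial) (t X 0) = 0 from
      (IsLocalRing.residue_eq_zero_iff _).2 ((germ_t_mem_iff (hle' trivial)).2 hmem), map_zero]
  refine ⟨⟨hle' trivial, h1⟩, ?_⟩
  rw [coordFun, dif_pos ⟨hle' trivial, h1⟩, heval]

/-- A point of the projective line over a point with the same residue field. -/
theorem point_over {δ : X → ℤ} {δP : ↥(CohB1.ProjSpaceOver 1 X) → ℤ}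
    (hP : Cyc.DeltaCompat (CohB1.ProjSpaceOver.toBase 1 X) δP δ) {S : Scheme.{u}}
    (g : S ⟶ CohB1.ProjSpaceOver 1 X) (j : S ⟶ X) [IsPreimmersion j]
    (hj : g ≫ CohB1.ProjSpaceOver.toBase 1 X = j) (s : S) {y : X} (hy : j s = y)
    (b : X.residueField y) (c : (CohB1.ProjSpaceOver 1 X).residueField (g s))
    (hc : g.residueFieldMap s c = gpull j hy b) :
    ∃ e : CohB1.ProjSpaceOver.toBase 1 X (g s) = y,
      δP (g s) = δ y ∧ ∀ x, Cyc.divFun δ (CohB1.ProjSpaceOver.toBase 1 X (g s))
        (Cyc.normGen (CohB1.ProjSpaceOver.toBase 1 X) (g s) c) x = Cyc.divFun δ y b x := by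
  subst hy
  subst hj
  refine ⟨rfl, ?_, ?_⟩
  · obtain ⟨n, hn, hn'⟩ := hP (g s)
    have h1 := AlgSpLib.resTrdeg_comp g (CohB1.ProjSpaceOver.toBase 1 X) s
    rw [CycPushLib.trdeg_preimmersion_left (g ≫ CohB1.ProjSpaceOver.toBase 1 X) s] at h1
    have hn0 : n = 0 := Nat.cast_eq_zero.1 (hn.symm.trans (add_eq_zero.1 h1.symm).1)
    rw [hn', hn0]
    simp
  · intro x
    rw [CycPushLib.gpull_rfl] at hc
    let π := CohB1.ProjSpaceOver.toBase 1 X
    have hbij := CycPushLib.residueFieldMap_bijective (g ≫ π) s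
    have hcomp : ∀ z, (g ≫ π).residueFieldMap s z = g.residueFieldMap s (π.residueFieldMap (g s) z) := fun z =>
      congrArg (fun φ => φ.hom z) (Scheme.residueFieldMap_comp g π s)
    have hginj : Function.Injective (g.residueFieldMap s).hom := RingHom.injective _
    have hπ : Function.Bijective (π.residueFieldMap (g s)).hom := ⟨RingHom.injective _, fun z => by
      obtain ⟨a, ha⟩ := hbij.2 (g.residueFieldMap s z)
      exact ⟨a, hginj ((hcomp a).symm.trans ha)⟩⟩
    have hb : c = π.residueFieldMap (g s) b := hginj (hc.trans (hcomp b))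
    congr 1
    rw [hb, Cyc.normGen]
    letI := (π.residueFieldMap (g s)).hom.toAlgebra
    show Algebra.norm (X.residueField (π (g s))) (algebraMap (X.residueField (π (g s))) _ b) = b
    rw [Algebra.norm_algebraMap,
      ← Algebra.finrank_eq_of_equiv_equiv (RingEquiv.refl (X.residueField (π (g s))))
        (RingEquiv.ofBijective (algebraMap (X.residueField (π (g s)))
          ((CohB1.ProjSpaceOver 1 X).residueField (g s))) hπ) (by ext; rfl), Module.finrank_self, pow_one]

variable {δ : X → ℤ} {δP : ↥(CohB1.ProjSpaceOver 1 X) → ℤ}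

/-- The difference of the fibres of a subvariety is the divisor of the norm of the coordinate. -/
theorem fibre_sub_fibre (hX : Cyc.IsSetup X δ) (hP : Cyc.DeltaCompat (CohB1.ProjSpaceOver.toBase 1 X) δP δ)
    {k : ℤ} {W : Scheme.{u}} [IsIntegral W] (ι : W ⟶ CohB1.ProjSpaceOver 1 X) [IsClosedImmersion ι]
    {ξ : ↥(CohB1.ProjSpaceOver 1 X)} (hξ : ι (genericPoint W) = ξ) (hW : δP ξ = k + 1)
    (hm : ξ ∈ chartOpen X 0 ∧ ξ ∈ chartOpen X 1) (x : X) :
    Cyc.subschemeFun δ k (pullback.snd ι (P1.sect X 0)) x - Cyc.subschemeFun δ k (pullback.snd ι (P1.sect X 1)) x =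
      if δ (CohB1.ProjSpaceOver.toBase 1 X ξ) = k + 1 then
        Cyc.divFun δ (CohB1.ProjSpaceOver.toBase 1 X ξ)
          (Cyc.normGen (CohB1.ProjSpaceOver.toBase 1 X) ξ (coordFun ξ)) x
      else 0 := by
  classical
  subst hξ
  have hP' := isSetup_proj hX hP
  haveI := hX.1
  haveI := hP'.1
  haveI := LocallyOfFiniteType.isLocallyNoetherian ι
  by_cases hxk : δ x = k
  swap
  · simp only [Cyc.subschemeFun, if_neg hxk, sub_self]
    split_ifs with h
    · rw [Cyc.divFun, dif_neg fun h' => hxk (by omega)]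
    · rfl
  let F := (Coh.push ι).obj (Coh.structureModule W)
  have hgen : ∀ z : W, z ≠ genericPoint W → δP (ι z) < k + 1 := fun z hz => by
    rw [← hW]
    exact (hP'.2.2 _ _ ((genericPoint_specializes z).map ι.continuous)
      fun h => hz (ι.isEmbedding.injective h).symm).1
  have hoff : ι (genericPoint W) ∉ Set.range (P1.sect X 0) ∪ Set.range (P1.sect X 1) := by
    rintro (h | h) <;> rw [range_sect] at h
    exacts [h hm.2, h hm.1]
  have hrange : ∀ p, Nontrivial (F.presheaf.stalk p) → p ∈ Set.range ι :=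
    fun p hp => by_contra fun h => by
      haveI := subsingleton_stalk_push ι h
      exact not_nontrivial _ hp
  have hsupp : ∀ p, Nontrivial (F.presheaf.stalk p) → δP p ≤ k + 1 := fun p hp => by
    obtain ⟨z, rfl⟩ := hrange p hp
    rcases eq_or_ne z (genericPoint W) with rfl | h
    · exact hW.le
    · exact (hgen z h).le
  have hδ : ∀ p, Nontrivial (F.presheaf.stalk p) →
      p ∈ Set.range (P1.sect X 0) ∪ Set.range (P1.sect X 1) → δP p ≤ k := fun p hp hps => by
    obtain ⟨z, rfl⟩ := hrange p hp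
    rcases eq_or_ne z (genericPoint W) with rfl | h
    · exact absurd hps hoff
    · have := hgen z h
      omega
  have hemb : ∀ p, IsAssociatedPrime (maximalIdeal ((CohB1.ProjSpaceOver 1 X).presheaf.stalk p))
      (F.presheaf.stalk p) → p ∉ Set.range (P1.sect X 0) ∪ Set.range (P1.sect X 1) ∨ δP p < k := fun p hp => by
    obtain ⟨z, rfl, hz⟩ := isAssociatedPrime_push ι p hp
    obtain ⟨hpr, m, hmz⟩ := isAssociatedPrime_iff.1 hz
    have hbot : ∀ a, a ∈ maximalIdeal (W.presheaf.stalk z) → a = 0 := fun a ha => by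
      have hm0 : m ≠ 0 := fun h => hpr.ne_top (by
        rw [hmz, h, eq_top_iff]
        intro r _
        rw [Submodule.mem_colon_singleton, smul_zero]
        exact zero_mem _)
      rw [hmz, Submodule.mem_colon_singleton, Submodule.mem_bot, smul_eq_mul] at ha
      exact (mul_eq_zero.1 ha).resolve_right hm0
    refine Or.inl ?_
    have e : CycDivLib.primeOf (genericPoint_specializes z) = closedPoint (W.presheaf.stalk z) :=
      PrimeSpectrum.ext (le_antisymm (le_maximalIdeal (CycDivLib.primeOf _).2.ne_top)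
        fun a ha => by rw [hbot a ha]; exact zero_mem _)
    have h := CycDivLib.stalkPt_primeOf (genericPoint_specializes z)
    rw [e] at h
    rw [show z = genericPoint W from Scheme.fromSpecStalk_closedPoint.symm.trans h]
    exact hoff
  have hF : Coh.IsCoh F := QCohLib.isCoh_push_finite ι _ (DevissLib.isCoh_structureModule W)
  set ξ := ι (genericPoint W) with hξdef
  have hsum : ∀ p, ∑ᶠ η, Cyc.sheafFun δP (k + 1) F η * Cyc.divFun δP η (coordFun η) p =
      Cyc.divFun δP ξ (coordFun ξ) p := fun p => by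
    rw [finsum_eq_single _ ξ fun η hη => ?_]
    · rw [show Cyc.sheafFun δP (k + 1) F ξ = 1 from ?_, one_mul]
      rw [Cyc.sheafFun, if_pos hW, CycLimLib.length_stalk_push_structure]
      have hfield : IsField (W.presheaf.stalk (genericPoint W)) := Field.toIsField W.functionField
      letI := hfield.toField
      rw [Module.length_eq_one_iff.2 inferInstance]
      rfl
    · by_cases hn : Nontrivial (F.presheaf.stalk η) ∧ δP η = k + 1
      · obtain ⟨z, rfl⟩ := hrange η hn.1
        have := hgen z fun h => hη (by rw [h])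
        omega
      · rw [Cyc.sheafFun]
        split_ifs with h
        · haveI : Subsingleton (F.presheaf.stalk η) := not_nontrivial_iff_subsingleton.1 fun h' => hn ⟨h', h⟩
          rw [Module.length_eq_zero]
          simp
        · exact zero_mul _
  have e0 := finsum_divFun_zero hP' hP hF hsupp hδ hemb x hxk
  have e1 := finsum_divFun_infty hP' hP hF hsupp hδ hemb x hxk
  rw [hsum] at e0 e1
  have hne := coordFun_ne_zero ξ
  have hpush := CycPushLib.pushSum_divFun hP' hX (CohB1.ProjSpaceOver.toBase 1 X) hP ξ hne x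
  rw [hW] at hpush
  rw [← hpush, subschemeFun_eq_fibreFun, subschemeFun_eq_fibreFun, sub_eq_add_neg]
  rw [← e0, ← e1]
  have hcoef : ∀ i : Fin (1 + 1),
      ((AlgebraicCycle.mapCoeff (CohB1.ProjSpaceOver.toBase 1 X) δP δ (P1.sect X i x) : ℕ) : ℤ) = 1 := fun i => by
    have h : δP (P1.sect X i x) = δ ((CohB1.ProjSpaceOver.toBase 1 X).base (P1.sect X i x)) := by
      rw [delta_sect hP]
      exact congrArg δ (toBase_sect i x).symm
    rw [AlgebraicCycle.mapCoeff, if_pos h]
    have h2 := CycPushLib.residueDegree_comp (P1.sect X i) (CohB1.ProjSpaceOver.toBase 1 X) x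
    rw [CycPushLib.residueDegree_congr (sect_toBase i) x,
      CycPushLib.residueDegree_eq_one_of_preimmersion (𝟙 X),
      CycPushLib.residueDegree_eq_one_of_preimmersion (P1.sect X i), one_mul] at h2
    rw [← h2, Nat.cast_one]
  have hne01 : P1.sect X 0 x ≠ P1.sect X 1 x := fun h => not_mem_both (i := 0) ⟨x, rfl⟩ ⟨x, h.symm⟩
  rw [finsum_mem_inter_support_eq' _ (CohB1.ProjSpaceOver.toBase 1 X ⁻¹' {x}) {P1.sect X 0 x, P1.sect X 1 x}
    fun p hp => ⟨fun hpx => ?_, fun hp' => ?_⟩, finsum_mem_pair hne01, hcoef, hcoef, mul_one, mul_one]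
  · have hd : Cyc.divFun δP ξ (coordFun ξ) p ≠ 0 := left_ne_zero_of_mul hp
    rcases mem_range_or p with ⟨y, rfl⟩ | ⟨y, rfl⟩ | ⟨h0, h1⟩
    · exact Or.inl (congrArg _ ((toBase_sect 0 y).symm.trans hpx))
    · exact Or.inr (congrArg _ ((toBase_sect 1 y).symm.trans hpx))
    · exact absurd ((hsum p).symm.trans (finsum_divFun_open hP' hF hsupp h0 h1)) hd
  · rcases hp' with h | h
    · rw [h]; exact toBase_sect 0 x
    · rw [Set.mem_singleton_iff.1 h]; exact toBase_sect 1 x

end CycP1Lib

end
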