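import Mathlib
import Groth.Agent.CycP1Lib.Graph
import Groth.Agent.DevissLib.ClosedImm
import Groth.Agent.S1405

/-!
# Rational functions as subvarieties of the projective line
-/

set_option autoImplicit false
set_option linter.style.haveILetI false

universe u

open AlgebraicGeometry CategoryTheory CategoryTheory.Limits IsLocalRing Opposite
open ChowLib HomogeneousLocalization
open CycDivLib (gpull)

noncomputable section

namespace CycP1Lib

variable {X : Scheme.{u}} {δ : X → ℤ}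

/-- The dimension function induced on the projective line. -/
theorem exists_deltaCompat (δ : X → ℤ) :
    ∃ δP : ↥(CohB1.ProjSpaceOver 1 X) → ℤ, Cyc.DeltaCompat (CohB1.ProjSpaceOver.toBase 1 X) δP δ := by
  let π := CohB1.ProjSpaceOver.toBase 1 X
  refine ⟨fun p => δ (π p) + (Cardinal.toNat (Dual3.resTrdeg π p) : ℕ),
    fun p => ⟨Cardinal.toNat (Dual3.resTrdeg π p), ?_, rfl⟩⟩
  letI := (π.residueFieldMap p).hom.toAlgebra
  haveI : Algebra.EssFiniteType (X.residueField (π p)) ((CohB1.ProjSpaceOver 1 X).residueField p) :=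
    Groth.Agent.S1405.essFiniteType_residueFieldMap π p
  exact (Cardinal.cast_toNat_of_lt_aleph0 (trdeg_lt_aleph0 (X.residueField (π p))
    ((CohB1.ProjSpaceOver 1 X).residueField p))).symm

variable {δP : ↥(CohB1.ProjSpaceOver 1 X) → ℤ}

/-- A subvariety whose generic point is given by a morphism with values in the chart at zero. -/
theorem fibre_sub_fibre_eq_divFun (hX : Cyc.IsSetup X δ)
    (hP : Cyc.DeltaCompat (CohB1.ProjSpaceOver.toBase 1 X) δP δ) {S : Scheme.{u}}
    (g : S ⟶ CohB1.ProjSpaceOver 1 X) (j : S ⟶ X) [IsPreimmersion j]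
    (hj : g ≫ CohB1.ProjSpaceOver.toBase 1 X = j)
    (ψ : Away (gr.{u} 1) (MvPolynomial.X (0 : Fin (1 + 1)) : MvPolynomial (Fin (1 + 1)) Z.{u}) →+* Γ(S, ⊤))
    (hg : g ≫ toPZ 1 X = toSpecOf ψ ≫ chart 0) (s : S) {y : X} (hy : j s = y) {k : ℤ} (hk : δ y = k + 1)
    (b : X.residueField y) (hb : b ≠ 0)
    (hψ : S.evaluation ⊤ s trivial (ψ (coordRing 0 1)) = gpull j hy b)
    {W : Scheme.{u}} [IsIntegral W] (ι : W ⟶ CohB1.ProjSpaceOver 1 X) [IsClosedImmersion ι]
    (hW : ι (genericPoint W) = g s) :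
    (δP (ι (genericPoint W)) = k + 1 ∧ ι (genericPoint W) ∉ Set.range (P1.sect X 0) ∧
      ι (genericPoint W) ∉ Set.range (P1.sect X 1) ∧
      CohB1.ProjSpaceOver.toBase 1 X (ι (genericPoint W)) = y) ∧
    ∀ x, Cyc.subschemeFun δ k (pullback.snd ι (P1.sect X 0)) x -
      Cyc.subschemeFun δ k (pullback.snd ι (P1.sect X 1)) x = Cyc.divFun δ y b x := by
  have hne : S.evaluation ⊤ s trivial (ψ (coordRing 0 1)) ≠ 0 := by
    rw [hψ]
    exact (_root_.map_ne_zero _).2 hb
  obtain ⟨hm, hc⟩ := coordFun_point g ψ hg s hne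
  obtain ⟨hy', hd, hdiv⟩ := point_over hP g j hj s hy b (coordFun (g s)) (hc.trans hψ)
  have hdk : δP (g s) = k + 1 := hd.trans hk
  rw [hW]
  refine ⟨⟨hdk, ?_, ?_, hy'⟩, fun x => ?_⟩
  · rw [range_sect]; exact fun h => h hm.2
  · rw [range_sect]; exact fun h => h hm.1
  · rw [fibre_sub_fibre hX hP ι hW hdk hm x, if_pos (by rw [hy']; exact hk), hdiv]

/-- A rational function on a subvariety gives a subvariety of the projective line. -/
theorem exists_subvariety (hX : Cyc.IsSetup X δ) (hP : Cyc.DeltaCompat (CohB1.ProjSpaceOver.toBase 1 X) δP δ)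
    {k : ℤ} (ξ : X) (hk : δ ξ = k + 1) (f : X.residueField ξ) (hf : f ≠ 0) :
    ∃ (W : Scheme.{u}) (ι : W ⟶ CohB1.ProjSpaceOver 1 X) (_ : IsIntegral W) (_ : IsClosedImmersion ι),
      (δP (ι (genericPoint W)) = k + 1 ∧ ι (genericPoint W) ∉ Set.range (P1.sect X 0) ∧
        ι (genericPoint W) ∉ Set.range (P1.sect X 1)) ∧
      (∀ w, CohB1.ProjSpaceOver.toBase 1 X (ι w) ∈ closure ({ξ} : Set X)) ∧
      ∀ x, Cyc.subschemeFun δ k (pullback.snd ι (P1.sect X 0)) x -
        Cyc.subschemeFun δ k (pullback.snd ι (P1.sect X 1)) x = Cyc.divFun δ ξ f x := by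
  let S := Spec (X.residueField ξ)
  let j : S ⟶ X := X.fromSpecResidueField ξ
  let s : S := closedPoint (X.residueField ξ)
  have hy : j s = ξ := Scheme.fromSpecResidueField_apply ξ s
  haveI : Subsingleton ↥S := inferInstanceAs (Subsingleton (PrimeSpectrum (X.residueField ξ)))
  obtain ⟨c, hc⟩ : ∃ c : Γ(S, ⊤), S.evaluation ⊤ s trivial c = gpull j hy f := by
    obtain ⟨a, ha⟩ := S.residue_surjective s (gpull j hy f)
    obtain ⟨U, hU, c, rfl⟩ := TopCat.Presheaf.exists_germ_eq S.presheaf (x := s) a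
    obtain rfl : U = ⊤ := TopologicalSpace.Opens.ext (Set.eq_univ_of_forall fun z => Subsingleton.elim s z ▸ hU)
    exact ⟨c, ha⟩
  let ψ : Away (gr.{u} 1) (MvPolynomial.X (0 : Fin (1 + 1)) : MvPolynomial (Fin (1 + 1)) Z.{u}) →+* Γ(S, ⊤) :=
    P1.chartMap 0 Γ(S, ⊤) c
  let g : S ⟶ CohB1.ProjSpaceOver 1 X := poLift (toSpecOf ψ ≫ chart 0) j
  obtain ⟨W, ι, hι, hW', hrange⟩ := DevissLib.exists_integral_closed (T := closure ({g s} : Set _)) isClosed_closure
    isIrreducible_singleton.closure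
  have hgen : ι (genericPoint W) = g s := by
    refine (((genericPoint_spec W).image ι.continuous).eq ?_)
    show closure _ = closure _
    rw [Set.image_univ, hrange, closure_closure]
  obtain ⟨⟨h1, h2, h3, h4⟩, h5⟩ := fibre_sub_fibre_eq_divFun hX hP g j (poLift_toBase _ _) ψ (poLift_toPZ _ _) s hy hk
    f hf (by rw [chartMap_coordRing]; exact hc) ι hgen
  refine ⟨W, ι, hW', hι, ⟨h1, h2, h3⟩, fun w => ?_, h5⟩
  rw [← h4]
  exact specializes_iff_mem_closure.1 (((genericPoint_specializes w).map ι.continuous).map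
    (CohB1.ProjSpaceOver.toBase 1 X).continuous)

end CycP1Lib

end
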