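import Mathlib
import Groth.Prelude.Def_Coh
import Groth.Agent.CycP1Lib.Main
import Groth.Agent.DvrLenLib.Stalks

/-!
# The fibres of a module through pullback along the sections
-/

set_option autoImplicit false
set_option linter.style.haveILetI false

universe u

open AlgebraicGeometry CategoryTheory IsLocalRing Opposite
open scoped Pointwise TensorProduct

noncomputable section

namespace CycP1Lib

variable {X : Scheme.{u}} {δ : X → ℤ}

/-- The stalks of the pullback along a section. -/
theorem stalk_pullback_sect [IsLocallyNoetherian (CohB1.ProjSpaceOver 1 X)]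
    {F : (CohB1.ProjSpaceOver 1 X).Modules} (hF : Coh.IsCoh F) (i : Fin (1 + 1)) (x : X) :
    Module.length (X.presheaf.stalk x) (((Scheme.Modules.pullback (P1.sect X i)).obj F).presheaf.stalk x) =
      Module.length ((CohB1.ProjSpaceOver 1 X).presheaf.stalk (P1.sect X i x))
      (F.presheaf.stalk (P1.sect X i x) ⧸
        (CohB1.ProjSpaceOver 1 X).presheaf.germ _ _ (sect_mem i x) (t X i) •
          (⊤ : Submodule ((CohB1.ProjSpaceOver 1 X).presheaf.stalk (P1.sect X i x))
            (F.presheaf.stalk (P1.sect X i x)))) ∧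
    (Nontrivial (((Scheme.Modules.pullback (P1.sect X i)).obj F).presheaf.stalk x) ↔
      Nontrivial (F.presheaf.stalk (P1.sect X i x))) := by
  haveI : Coh.IsQCoh F := hF.1
  let σ := P1.sect X i
  let R : Type u := (CohB1.ProjSpaceOver 1 X).presheaf.stalk (σ x)
  let M : Type u := F.presheaf.stalk (σ x)
  haveI : Module.Finite R M := DepthLib.finite_stalk F hF.2 _
  letI : Algebra R (X.presheaf.stalk x) := (σ.stalkMap x).hom.toAlgebra
  have hs : Function.Surjective (algebraMap R (X.presheaf.stalk x)) := σ.stalkMap_surjective x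
  let e₁ : X.presheaf.stalk x ⊗[R] M ≃ₗ[X.presheaf.stalk x] ((Scheme.Modules.pullback σ).obj F).presheaf.stalk x :=
    ((KFlatLib.stalkPullIso σ x).symm.app F).toLinearEquiv
  let φ : R := (CohB1.ProjSpaceOver 1 X).presheaf.germ _ _ (sect_mem i x) (t X i)
  have hker : RingHom.ker (algebraMap R (X.presheaf.stalk x)) = Ideal.span {φ} := ker_stalkMap_sect i x
  have hsub : RingHom.ker (algebraMap R (X.presheaf.stalk x)) • (⊤ : Submodule R M) = φ • ⊤ := by
    rw [hker, Submodule.ideal_span_singleton_smul]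
  refine ⟨?_, ?_⟩
  · rw [← e₁.length_eq, DvrLenLib.length_tensor_of_surjective hs M]
    exact (Submodule.quotEquivOfEq _ _ hsub).length_eq
  · rw [← e₁.toEquiv.nontrivial_congr,
      ((DvrLenLib.tensorEquivQuot hs M).trans (Submodule.quotEquivOfEq _ _ hsub)).toEquiv.nontrivial_congr,
      Submodule.Quotient.nontrivial_iff]
    refine ⟨fun h => not_subsingleton_iff_nontrivial.1 fun hs => h (Subsingleton.elim _ _), fun h htop => ?_⟩
    have hmem : φ ∈ maximalIdeal R := (germ_t_mem_iff _).2 ⟨x, rfl⟩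
    have := Submodule.eq_bot_of_le_smul_of_le_jacobson_bot (maximalIdeal R) (⊤ : Submodule R M)
      Module.Finite.fg_top (fun m hm => by
        rw [← htop] at hm
        obtain ⟨m', -, rfl⟩ := hm
        exact Submodule.smul_mem_smul hmem trivial) (maximalIdeal_le_jacobson _)
    exact bot_ne_top this.symm

/-- Rational equivalence of the fibres, through pullbacks. -/
theorem ratEquiv_pullback (hX : Cyc.IsSetup X δ) {δP : ↥(CohB1.ProjSpaceOver 1 X) → ℤ}
    (hP : Cyc.DeltaCompat (CohB1.ProjSpaceOver.toBase 1 X) δP δ) {k : ℤ} {F : (CohB1.ProjSpaceOver 1 X).Modules}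
    (hF : Coh.IsCoh F) (hsupp : ∀ p, Nontrivial (F.presheaf.stalk p) → δP p ≤ k + 1)
    (h0 : ∀ x : X, Nontrivial (((Scheme.Modules.pullback (P1.sect X 0)).obj F).presheaf.stalk x) → δ x ≤ k)
    (h1 : ∀ x : X, Nontrivial (((Scheme.Modules.pullback (P1.sect X 1)).obj F).presheaf.stalk x) → δ x ≤ k)
    (hemb : ∀ p, IsAssociatedPrime (maximalIdeal ((CohB1.ProjSpaceOver 1 X).presheaf.stalk p))
        (F.presheaf.stalk p) → p ∉ Set.range (P1.sect X 0) ∪ Set.range (P1.sect X 1) ∨ δP p < k)
    (α β : AlgebraicCycle X ℤ) (hα : ⇑α = Cyc.sheafFun δ k ((Scheme.Modules.pullback (P1.sect X 0)).obj F))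
    (hβ : ⇑β = Cyc.sheafFun δ k ((Scheme.Modules.pullback (P1.sect X 1)).obj F)) : Cyc.RatEquiv δ k α β := by
  haveI := (isSetup_proj hX hP).1
  have key : ∀ i : Fin (1 + 1),
      Cyc.sheafFun δ k ((Scheme.Modules.pullback (P1.sect X i)).obj F) = fibreFun δ k F i := fun i => funext fun x => by
    simp only [Cyc.sheafFun, fibreFun, (stalk_pullback_sect hF i x).1]
  refine ratEquiv_fibres hX hP hF hsupp ?_ hemb α β (hα.trans (key 0)) (hβ.trans (key 1))
  rintro p hp (⟨x, rfl⟩ | ⟨x, rfl⟩)
  · rw [delta_sect hP]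
    exact h0 x ((stalk_pullback_sect hF 0 x).2.2 hp)
  · rw [delta_sect hP]
    exact h1 x ((stalk_pullback_sect hF 1 x).2.2 hp)

end CycP1Lib

end
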